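import Cfsg.Agent.Lib.Sporadic.ThPres.Lower.Order
import Cfsg.Prelude.Def_Sporadic

/-!
# The presented Thompson group is simple (owner: helper9)

The subgroup on seven generators is maximal: every other double coset has an edge to itself. So a proper normal
subgroup would be a complement, and the 3D4(2):3 part has no element inverting `t`.
-/

set_option autoImplicit false
set_option maxRecDepth 20000
set_option Elab.async false

namespace CfsgLib.Sporadic.ThPres

open Cfsg
open CfsgLib.ThreeTrans.CosetIndex (forallFrom forallFrom_elim)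

theorem thL_mem_Hs {k : ℕ} (hk : k < 14) : thL k ∈ Hs := ⟨L k, toTh_L hk⟩

theorem eq_top_of_U {K : Subgroup Spor.Th} (hH : Hs ≤ K) (hU : U ∈ K) : K = ⊤ := by
  rw [eq_top_iff, ← PresentedGroup.closure_range_of, Subgroup.closure_le]
  rintro _ ⟨g, rfl⟩
  have e : thL (code (g, true)) = PresentedGroup.of g := thL_code (g, true)
  rw [SetLike.mem_coe, ← e]
  cases g
  case u => exact hU
  all_goals exact hH (thL_mem_Hs (by decide))

/-- For every other double coset, an edge from it to itself. -/
def loopEdges : List ℕ := [0, 15, 17, 76, 26, 36, 48, 1624, 1834, 2072, 2193]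

theorem loopEdges_ok : forallFrom (fun i => Nat.blt (loopEdges.getD i 0) 2197 &&
    (!(factAt factTree (loopEdges.getD i 0)).1.st && (Nat.beq (factAt factTree (loopEdges.getD i 0)).1.i i &&
      Nat.beq (factAt factTree (loopEdges.getD i 0)).1.k i))) 1 10 = true := by decide +kernel

/-- The subgroup on seven generators is maximal. -/
theorem eq_top_of_lt {K : Subgroup Spor.Th} (hH : Hs ≤ K) {g : Spor.Th} (hg : g ∈ K) (hn : g ∉ Hs) : K = ⊤ := by
  obtain ⟨h, hh, i, hi, p, rfl⟩ := mem_dcUnion g
  rcases Nat.eq_zero_or_pos i with rfl | hpos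
  · refine absurd ?_ hn
    rw [Wr_zero, mul_one]
    exact mul_mem hh ⟨p, rfl⟩
  have hp : toTh p ∈ K := hH ⟨p, rfl⟩
  have hW : Wr i ∈ K := by
    have := mul_mem (inv_mem (hH hh)) (mul_mem hg (inv_mem hp))
    simpa [mul_assoc] using this
  have hok := forallFrom_elim loopEdges_ok hpos (show i < 1 + 10 by omega)
  simp only [Bool.and_eq_true, Nat.blt_eq, Nat.beq_eq, Bool.not_eq_true'] at hok
  obtain ⟨hq, hst, hii, hki⟩ := hok
  have he := holds _ hq
  rw [Holds, hst] at he
  simp only [Bool.false_eq_true, if_false, hii, hki] at he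
  refine eq_top_of_U hH ?_
  generalize (factAt factTree (loopEdges.getD i 0)).1 = f at he
  change Wr i * evT f.a * U = evT f.n * Wr i * evT f.m at he
  have e : U = (evT f.a)⁻¹ * (Wr i)⁻¹ * (evT f.n * Wr i * evT f.m) := by rw [← he]; group
  rw [e]
  exact mul_mem (mul_mem (inv_mem (hH (evT_mem _))) (inv_mem hW))
    (mul_mem (mul_mem (hH (evT_mem _)) hW) (hH (evT_mem _)))

theorem rel_u_sq : U * U * (thL 4)⁻¹ * (thL 0)⁻¹ = 1 := by
  have h : (([14, 14, 5, 1] : List ℕ).map thL).prod = 1 := th_rel (by decide +kernel)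
  rw [← thL_flp, ← thL_flp]
  simpa [mul_assoc, PairEnum.flp] using h

theorem rel_u_three : thL 0 * thL 4 * ((thL 10)⁻¹ * U⁻¹ * ((thL 10)⁻¹ * U⁻¹) * ((thL 10)⁻¹ * U⁻¹)) = 1 := by
  have h : (([0, 4, 11, 15, 11, 15, 11, 15] : List ℕ).map thL).prod = 1 := th_rel (by decide +kernel)
  rw [← thL_flp, ← thL_flp]
  simpa [mul_assoc, PairEnum.flp] using h

theorem rel_t_u : U⁻¹ * thL 12 * U * thL 12 = 1 := by
  have h : (([15, 12, 14, 12] : List ℕ).map thL).prod = 1 := th_rel (by decide +kernel)
  rw [← thL_flp]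
  simpa [mul_assoc, PairEnum.flp] using h

theorem rel_t_three : thL 12 * thL 12 * thL 12 = 1 := by
  have h : (([12, 12, 12] : List ℕ).map thL).prod = 1 := th_rel (by decide +kernel)
  simpa [mul_assoc] using h

theorem P1_ne_top : P1 ≠ ⊤ := fun h => by
  have := card_P1
  rw [h, Subgroup.card_top, natCard_P0] at this
  norm_num at this

/-- No element of the seven generator group inverts `t`. -/
theorem not_inverting (x : P0) : x⁻¹ * L 12 * x * L 12 ≠ 1 := by
  intro h
  set π := QuotientGroup.mk' P1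
  have hk : ∀ g : P0, π g ∈ Subgroup.zpowers (π (L 12)) := by
    intro g
    have hg : g ∈ Subgroup.closure {g | ∃ x ∈ ([0, 2, 4, 6, 8, 10, 12] : List ℕ), g = L x} :=
      L_closure ▸ Subgroup.mem_top g
    refine (Subgroup.closure_le ((Subgroup.zpowers (π (L 12))).comap π)).2 ?_ hg
    rintro _ ⟨y, hy, rfl⟩
    rcases Nat.lt_or_ge y 12 with h' | h'
    · rw [SetLike.mem_coe, Subgroup.mem_comap, show π (L y) = 1 from (QuotientGroup.eq_one_iff _).2 (L_mem_P1 h')]
      exact one_mem _
    · obtain rfl : y = 12 := by simp at hy; omega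
      exact Subgroup.mem_zpowers _
  obtain ⟨n, hn⟩ := Subgroup.mem_zpowers_iff.1 (hk x)
  have h2 : π (L 12) * π (L 12) = 1 := by
    have e := congrArg π h
    simp only [map_mul, map_inv, map_one, ← hn] at e
    rwa [← zpow_neg, ← zpow_add_one, ← zpow_add, show -n + 1 + n = 1 by ring, zpow_one] at e
  have h3 : π (L 12) * π (L 12) * π (L 12) = 1 := by
    have e : L 12 * L 12 * L 12 = (1 : P0) := by
      have := L_rel (w := [12, 12, 12]) (by decide +kernel)
      simpa [mul_assoc] using this
    rw [← map_mul, ← map_mul, e, map_one]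
  rw [h2, one_mul] at h3
  refine P1_ne_top (eq_top_iff.2 ?_)
  rw [← L_closure, Subgroup.closure_le]
  rintro _ ⟨y, hy, rfl⟩
  rcases Nat.lt_or_ge y 12 with h' | h'
  · exact L_mem_P1 h'
  · obtain rfl : y = 12 := by simp at hy; omega
    exact (QuotientGroup.eq_one_iff _).1 h3

theorem simple_Th : IsSimpleGroup Spor.Th := by
  have : Nontrivial Spor.Th := by
    rw [← Finite.one_lt_card_iff_nontrivial, card_Th]; norm_num
  refine ⟨fun N hN => ?_⟩
  by_cases hb : N = ⊥
  · exact Or.inl hb
  right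
  by_cases hI : N.comap toTh = ⊥
  · exfalso
    have hnot : ¬ N ≤ Hs := fun hle => hb ((Subgroup.eq_bot_iff_forall N).2 fun n hn => by
      obtain ⟨p, rfl⟩ := hle hn
      have : p ∈ N.comap toTh := hn
      rw [hI, Subgroup.mem_bot] at this
      rw [this, map_one])
    obtain ⟨g, hgN, hgH⟩ := SetLike.not_le_iff_exists.1 hnot
    have htop : N ⊔ Hs = ⊤ := eq_top_of_lt le_sup_right (Subgroup.mem_sup_left hgN) hgH
    have hU : U ∈ N ⊔ Hs := htop ▸ Subgroup.mem_top _
    obtain ⟨n, hn, h, ⟨x, rfl⟩, hU⟩ := Subgroup.mem_sup_of_normal_left.1 hU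
    set q := QuotientGroup.mk' N
    have hqU : q U = q (toTh x) := by
      rw [← hU, map_mul, show q n = 1 from (QuotientGroup.eq_one_iff _).2 hn, one_mul]
    have e := congrArg q rel_t_u
    rw [← toTh_L (show 12 < 14 by norm_num), map_mul, map_mul, map_mul, map_inv, hqU, ← map_inv q, ← map_mul q,
      ← map_mul q, ← map_mul q, ← map_inv toTh, ← map_mul toTh, ← map_mul toTh, ← map_mul toTh, map_one] at e
    have hmem : x⁻¹ * L 12 * x * L 12 ∈ N.comap toTh := (QuotientGroup.eq_one_iff (N := N) (toTh (x⁻¹ * L 12 * x * L 12))).1 e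
    rw [hI, Subgroup.mem_bot] at hmem
    exact not_inverting x hmem
  · have hP1 := P1_le_normal (hN.comap toTh) hI
    set q := QuotientGroup.mk' N
    have h1 : ∀ k, k < 12 → q (thL k) = 1 := fun k hk => by
      rw [← toTh_L (show k < 14 by omega)]
      exact (QuotientGroup.eq_one_iff _).2 (hP1 (L_mem_P1 hk))
    have hu2 : q U * q U = 1 := by
      have e := congrArg q rel_u_sq
      simpa [h1] using e
    have hu3 : (q U)⁻¹ * (q U)⁻¹ * (q U)⁻¹ = 1 := by
      have e := congrArg q rel_u_three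
      simpa [h1, mul_assoc] using e
    have hu : q U = 1 := by
      calc q U = (q U * q U) * (q U * q U) * ((q U)⁻¹ * (q U)⁻¹ * (q U)⁻¹) := by group
        _ = 1 := by rw [hu2, hu3]; group
    have ht2 : q (thL 12) * q (thL 12) = 1 := by
      have e := congrArg q rel_t_u
      simpa [hu] using e
    have ht : q (thL 12) = 1 := by
      have e := congrArg q rel_t_three
      rw [map_mul, map_mul, map_one, ht2, one_mul] at e
      exact e
    refine eq_top_of_U (fun g hg => ?_) ((QuotientGroup.eq_one_iff _).1 hu)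
    obtain ⟨p, rfl⟩ := hg
    have hp : p ∈ Subgroup.closure {g | ∃ x ∈ ([0, 2, 4, 6, 8, 10, 12] : List ℕ), g = L x} :=
      L_closure ▸ Subgroup.mem_top p
    refine (Subgroup.closure_le (N.comap toTh)).2 ?_ hp
    rintro _ ⟨y, hy, rfl⟩
    rcases Nat.lt_or_ge y 12 with h' | h'
    · exact hP1 (L_mem_P1 h')
    · obtain rfl : y = 12 := by simp at hy; omega
      rw [SetLike.mem_coe, Subgroup.mem_comap, toTh_L (by norm_num)]
      exact (QuotientGroup.eq_one_iff _).1 ht

theorem isTh : IsTh Spor.Th := ⟨simple_Th, card_Th⟩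

theorem rho_injective : Function.Injective Rep.rho := by
  refine (MonoidHom.ker_eq_bot_iff _).1 ?_
  rcases simple_Th.eq_bot_or_eq_top_of_normal Rep.rho.ker inferInstance with h | h
  · exact h
  · exact absurd (MonoidHom.mem_ker.1 (h ▸ Subgroup.mem_top (toTh (L 0)))) rho_toTh_L0

end CfsgLib.Sporadic.ThPres
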