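import Cfsg.Agent.Lib.Sporadic.ThPres.Lower.FiveData

set_option autoImplicit false
set_option maxRecDepth 20000
set_option Elab.async false

/-! Checks for the subgroup of order 5^3 (generated; owner: helper9). -/

namespace CfsgLib.Sporadic.ThPres.Lower

theorem base5 : baseOK 5 0 gens5 lvls5 es5 = true := by decide +kernel

theorem rels5_at0 : relsOK 5 gens5 rels5 0 1 = true := by decide +kernel

theorem rels5_at1 : relsOK 5 gens5 rels5 1 1 = true := by decide +kernel

theorem rels5_at2 : relsOK 5 gens5 rels5 2 1 = true := by decide +kernel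

theorem rels5_ok : relsOK 5 gens5 rels5 0 3 = true := by
  have h1 := rels5_at0
  have h2 := relsOK_cat (l := 2) h1 rels5_at1 rfl rfl
  have h3 := relsOK_cat (l := 3) h2 rels5_at2 rfl rfl
  exact h3

theorem top5_0_0 : topPart 5 gens5 0 0 0 1 = true := by decide +kernel

theorem exps5_0 : (exps 5 (0 - 0)).length = 1 := by decide +kernel

theorem top5_0 : topPart 5 gens5 0 0 0 (exps 5 (0 - 0)).length = true := by
  rw [exps5_0]
  have h0 := top5_0_0
  exact h0

theorem top5_1_0 : topPart 5 gens5 0 1 0 5 = true := by decide +kernel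

theorem exps5_1 : (exps 5 (1 - 0)).length = 5 := by decide +kernel

theorem top5_1 : topPart 5 gens5 0 1 0 (exps 5 (1 - 0)).length = true := by
  rw [exps5_1]
  have h0 := top5_1_0
  exact h0

theorem top5_2_0 : topPart 5 gens5 0 2 0 20 = true := by decide +kernel

theorem top5_2_20 : topPart 5 gens5 0 2 20 5 = true := by decide +kernel

theorem exps5_2 : (exps 5 (2 - 0)).length = 25 := by decide +kernel

theorem top5_2 : topPart 5 gens5 0 2 0 (exps 5 (2 - 0)).length = true := by
  rw [exps5_2]
  have h0 := top5_2_0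
  have h1 := topPart_cat (l := 25) h0 top5_2_20 rfl rfl
  exact h1

theorem dvd5 : 5 ^ 3 ∣ Nat.card Cfsg.Spor.Th := by
  refine pow_dvd (by norm_num) rels5_ok (by norm_num) base5 fun i h1 h2 => ?_
  interval_cases i
  exacts [top5_0, top5_1, top5_2]

end CfsgLib.Sporadic.ThPres.Lower
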