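import Cfsg.Agent.Lib.Sporadic.ThPres.Lower.Cert

set_option autoImplicit false
set_option maxRecDepth 20000
set_option Elab.async false

/-! Elements of order nineteen and thirty-one (generated; owner: helper9). -/

namespace CfsgLib.Sporadic.ThPres.Lower

/-- traces -/
def uses19 : List Use := [
  ⟨[3], 7, false, [1]⟩,
  ⟨[], 7, true, [1, 2, 10]⟩,
  ⟨[6, 6, 5, 5, 5, 5, 5, 5, 5, 5, 5, 5, 5, 5, 0, 1], 7, false, [5, 10]⟩,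
  ⟨[11, 11, 13, 10], 40, false, [1, 2, 3, 6, 2]⟩,
  ⟨[], 40, true, [1, 3, 4, 6, 4, 6, 2, 4]⟩,
  ⟨[11, 11, 13, 12, 10, 12, 11, 11, 11, 11, 13], 16, false, [2]⟩,
  ⟨[24], 130, false, [0, 4, 5, 6, 10, 5, 3, 6, 4, 5, 6]⟩,
  ⟨[], 130, true, [1, 3, 5, 6, 5, 3, 6, 2, 6]⟩,
  ⟨[24], 1154, true, [1, 6, 2, 4, 6, 5]⟩,
  ⟨[24, 23], 1004, false, [0, 10, 5, 3, 6, 5, 6, 2, 4, 10]⟩,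
  ⟨[], 1004, true, [1, 10, 5, 3, 6, 5, 6, 4, 5]⟩,
  ⟨[23, 24, 23], 976, true, [0, 4, 5, 6, 4, 6, 2, 10, 5, 6]⟩,
  ⟨[23], 880, false, [0, 3, 5, 3, 6, 4, 6, 4, 6]⟩,
  ⟨[], 880, true, [6, 4, 6, 4, 6, 10, 5, 3]⟩,
  ⟨[24, 23], 1030, true, [4, 10, 5, 6, 1, 4, 5, 6, 2, 10]⟩,
  ⟨[24, 23], 488, true, [0, 3, 4, 5, 6, 2, 6, 4, 10, 5, 3]⟩,
  ⟨[], 488, false, [3, 4, 6, 1, 2, 5, 6, 4, 6, 5, 6]⟩,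
  ⟨[23], 550, false, [6, 1, 5, 6, 4, 10, 5, 3]⟩,
  ⟨[24, 23], 1409, true, [4, 6, 2, 5, 6, 4, 6, 5, 6]⟩,
  ⟨[], 1409, false, [0, 4, 6, 4, 5, 6, 2, 4, 5, 6, 10]⟩,
  ⟨[23, 24], 864, false, [3, 5, 6, 5, 3, 6, 4, 5, 6, 10]⟩,
  ⟨[24], 1048, true, [0, 2, 5, 6, 4, 5, 6, 2, 10]⟩,
  ⟨[], 1048, false, [1, 5, 6, 2, 4, 5, 6, 2]⟩,
  ⟨[], 1494, true, [0, 2, 3, 5, 6, 4, 6, 2, 5, 6]⟩,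
  ⟨[50, 50, 50, 50, 50, 21, 21, 21, 21, 21, 245, 245, 245, 245, 245, 22, 22], 158, false, [2, 4, 5, 6, 4]⟩,
  ⟨[], 158, true, [2, 5, 6, 4, 6, 2, 10]⟩,
  ⟨[245, 245, 245, 245, 245, 22, 22, 22, 22], 213, false, [6, 5, 10, 5, 6, 4, 6, 5]⟩,
  ⟨[23, 24], 778, false, [4, 6, 1, 2, 5, 6, 5, 3]⟩,
  ⟨[], 778, true, [4, 6, 1, 2, 5, 6, 5, 3]⟩,
  ⟨[24, 23], 831, true, [0, 6, 2, 6, 4, 5, 6, 2, 6, 5]⟩,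
  ⟨[23, 24, 23], 1366, false, [0, 6, 4, 10, 5, 3, 6, 4, 6, 5]⟩,
  ⟨[], 1366, true, [4, 10, 5, 6, 1, 10, 5, 3, 6, 2]⟩,
  ⟨[23, 24], 1460, false, [2, 6, 4, 5, 3, 5, 6, 5, 6]⟩,
  ⟨[50, 50, 50, 50, 50, 245, 245, 245, 245, 245, 22, 22], 230, false, [0, 5, 6, 4, 10, 5, 6, 2, 6, 2, 4]⟩,
  ⟨[], 230, true, [0, 2, 5, 3, 6, 5, 6, 2, 6, 10]⟩,
  ⟨[50, 50, 50, 50, 50, 50, 50, 50, 50, 50, 245, 245, 245, 245, 245], 152, true, [1, 3, 5, 6, 4, 5, 6, 4, 5, 6]⟩,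
  ⟨[], 147, true, [2, 6, 2, 5, 6, 5]⟩,
  ⟨[], 147, false, [6, 1, 2, 5, 6, 5, 10]⟩,
  ⟨[24, 23], 823, true, [0, 2, 6, 5, 6, 2, 6, 4, 6, 10]⟩,
  ⟨[], 1061, false, [4, 10, 5, 3, 6, 4, 6, 5, 6, 10]⟩,
  ⟨[], 1061, true, [5, 3, 6, 1, 4, 5, 3, 6, 5, 3]⟩,
  ⟨[23, 24], 824, true, [0, 6, 4, 6, 5, 6, 5, 10]⟩,
  ⟨[23, 24], 958, true, [0, 6, 5, 3, 5, 6, 2, 4]⟩,
  ⟨[], 958, false, [1, 2, 3, 6, 2, 5, 6, 4]⟩,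
  ⟨[], 776, false, [0, 6, 10, 5, 3, 6, 5, 6, 2]⟩,
  ⟨[23, 24], 708, true, [2, 3, 4, 6, 4, 5, 6, 2, 5]⟩,
  ⟨[], 708, false, [2, 5, 3, 6, 2, 6, 5, 6, 2, 4]⟩,
  ⟨[23, 24], 1253, true, [2, 3, 4, 6, 2, 5]⟩,
  ⟨[24, 23], 1323, false, [1, 10, 5, 3, 6, 5, 6, 4, 6]⟩,
  ⟨[], 1323, true, [1, 4, 6, 5, 6, 2, 10, 5, 6]⟩,
  ⟨[23], 1505, true, [2, 3, 6, 2, 6, 4, 5, 6]⟩,
  ⟨[23], 112, false, [6, 10, 5, 6, 10, 5, 3, 6, 2]⟩,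
  ⟨[], 112, true, [2, 6, 4, 6, 10, 5, 3, 6, 4, 5]⟩,
  ⟨[], 16, true, [0, 5, 3, 5, 6, 2, 4]⟩,
  ⟨[11, 11, 11, 11, 13, 12, 14, 13, 10], 25, false, [6, 2, 5, 6, 5, 3, 6, 4, 6, 5]⟩,
  ⟨[], 25, true, [0, 2, 3, 5, 6, 4, 5, 6, 2]⟩,
  ⟨[], 7, true, [3, 4, 6, 4, 5, 3, 6, 5]⟩]

theorem prime19 : primeOK 19 [6, 11, 10, 4, 14, 8, 13, 14, 11, 11, 2, 10, 14] uses19 = true := by decide +kernel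

theorem dvd19 : 19 ∣ Nat.card Cfsg.Spor.Th := prime_dvd (by norm_num) prime19

/-- traces -/
def uses31 : List Use := [
  ⟨[5, 5, 5, 5, 5, 5, 5, 5, 5, 5, 5, 5, 5, 5, 5, 5, 5, 5], 7, false, [10]⟩,
  ⟨[8], 39, false, [1, 2, 3]⟩,
  ⟨[52, 52, 52, 52, 52, 52, 52, 52, 42, 42, 42, 42, 42, 52, 52, 52, 52, 52, 52, 52, 52, 44, 44, 44, 44, 44, 52, 52, 52, 52, 52, 52, 52, 52, 44, 44, 44, 44, 44, 52, 52, 52, 52, 52, 52, 52, 52, 44, 44, 44, 44, 44], 97, false, [0, 3, 4, 6, 2, 5, 6, 4]⟩,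
  ⟨[], 102, true, [4, 10, 5, 3, 6, 2, 6, 4, 6]⟩,
  ⟨[], 1026, false, [6, 4, 6, 2, 6, 5, 3, 6, 5, 3]⟩,
  ⟨[], 1832, false, [2, 3, 6, 2, 6, 5, 6, 5, 3]⟩,
  ⟨[1811, 1811, 1792, 1792, 1792, 1792, 1792, 1792, 1830, 1830, 1830, 1830, 1830], 1874, false, [0, 10, 5, 6, 2, 4, 5]⟩,
  ⟨[37, 37, 66, 66, 66, 66, 66, 38], 734, false, [2, 3, 4, 5, 6, 4, 6, 2, 5, 3]⟩,
  ⟨[24, 23], 1471, true, [6, 4, 10, 5, 6, 2, 5, 3, 6]⟩,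
  ⟨[], 1270, false, [3, 6, 4, 6, 5, 6, 2, 5]⟩,
  ⟨[24], 911, true, [1, 4, 5, 3, 6, 2, 5, 6, 2, 4]⟩,
  ⟨[], 1211, true, [2, 5, 6, 1, 5, 10, 5, 6]⟩,
  ⟨[], 1206, true, [0, 2, 3, 6, 5, 3, 6, 5, 6]⟩,
  ⟨[24], 2032, false, [1, 6, 4, 10, 5, 3, 6, 2]⟩,
  ⟨[1961, 1961, 1961, 1961, 1961, 1961, 1961, 1961, 1961, 1961, 1961, 1961, 1979, 1979, 1979, 1979, 1958, 1979, 1979], 2094, true, [0, 5, 6, 2, 6, 4, 5, 3, 6]⟩,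
  ⟨[24, 23], 997, true, [3, 4, 6, 5, 6, 2, 6, 5, 6]⟩,
  ⟨[23, 24], 1452, false, [3, 4, 6, 1, 4, 5, 6]⟩,
  ⟨[23, 24], 2012, true, [0, 4, 6, 10, 5, 6, 4, 5, 6, 10]⟩,
  ⟨[], 2022, false, [1, 2, 3, 6, 5, 3]⟩,
  ⟨[23], 1151, true, [1, 6, 2, 5, 3, 6, 4, 5, 10, 5]⟩,
  ⟨[23, 24, 23], 1655, true, [1, 5, 6, 2, 6, 2, 10]⟩,
  ⟨[1587, 1587, 1587, 1587, 1587, 1583, 1583, 1583, 1583, 1549, 1549, 1549, 1549], 1677, true, [2, 6, 5, 6, 5, 10, 5, 6, 2]⟩,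
  ⟨[], 1271, false, [4, 5, 10, 5, 6, 1, 4, 6, 4]⟩,
  ⟨[], 488, false, [5, 3, 6, 5, 6, 4, 5, 10]⟩,
  ⟨[], 1877, false, [0, 3, 6, 5, 6, 2, 6, 10, 5, 3]⟩,
  ⟨[1830, 1830, 1830, 1830, 1830, 1830, 1830, 1830, 1830, 1830, 1792, 1792, 1792, 1792, 1792, 1792], 1765, true, [4, 5, 6, 4, 5, 6, 5, 3, 5]⟩,
  ⟨[23, 24], 1046, true, [4, 5, 6, 5, 3, 6, 5, 6, 10]⟩,
  ⟨[], 1372, true, [1, 2, 3, 5, 6, 10, 5, 6, 2, 6, 5]⟩,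
  ⟨[23, 24], 1301, true, [1, 2, 10, 5, 3, 6, 4]⟩,
  ⟨[23, 24], 477, false, [2, 3, 4, 6, 2, 6, 5, 6, 10]⟩,
  ⟨[], 376, false, [1, 2, 5, 6, 5, 10]⟩,
  ⟨[23], 1719, false, [5, 10, 5, 6, 2, 4, 5, 6, 2, 10]⟩,
  ⟨[1583, 1583, 1587, 1587, 1587, 1587, 1587, 1549, 1549, 1549, 1549], 1602, true, [3, 4, 6, 5, 6, 4, 6]⟩,
  ⟨[], 732, false, [10, 5]⟩,
  ⟨[23, 24], 798, true, [2, 6, 5, 3, 6, 5, 3, 6]⟩,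
  ⟨[23], 1439, true, [1, 10, 5, 6, 2, 6, 5, 10]⟩,
  ⟨[], 293, true, [2, 6, 4, 5, 6, 4, 5, 3, 6, 5, 3]⟩,
  ⟨[23, 24], 185, true, [1, 3, 6, 4, 5, 10, 5, 6, 4, 6]⟩,
  ⟨[24, 23], 981, false, [1, 6, 10, 5, 6, 10, 5, 6, 2, 6, 10]⟩,
  ⟨[24], 1030, true, [1, 10, 5, 6, 10, 5, 6, 10, 5]⟩,
  ⟨[23, 24], 878, false, [0, 4, 6, 2, 4, 5, 6, 4, 6, 5]⟩,
  ⟨[24], 420, false, [1, 2, 3, 6, 2, 5, 6]⟩,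
  ⟨[], 2110, true, [0, 3, 6, 4, 5, 3, 6, 2, 6, 4]⟩,
  ⟨[1958, 1961, 1961, 1961, 1961, 1961, 1961, 1961, 1961, 1961, 1961, 1961, 1961, 1961, 1961, 1961, 1961, 1961, 1961, 1961, 1961, 1961, 1961, 1961, 1961, 1961, 1961, 1961, 1961, 1961, 1961, 1961, 1961, 1961, 1961, 1961, 1961, 1958], 2147, true, [4, 6, 1, 4, 5, 3, 6, 5, 3]⟩,
  ⟨[24], 963, true, [3, 4, 6, 1, 5, 6, 2, 10, 5]⟩,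
  ⟨[23, 24, 23], 559, true, [10, 5, 3, 6, 1, 4, 5, 6, 2, 6]⟩,
  ⟨[23, 24, 23], 1193, true, [1, 2, 6, 5, 6, 10, 5, 3, 6]⟩,
  ⟨[63, 63, 63, 63, 63, 30, 27], 645, true, [2, 6, 5, 6, 2, 4, 5, 6, 10]⟩,
  ⟨[23, 24, 23], 364, false, [0, 10, 5, 6, 4, 10, 5, 3, 6, 2]⟩,
  ⟨[23, 24, 23], 917, true, [6, 4, 6, 2, 4, 5, 6, 5]⟩,
  ⟨[23], 991, false, [1, 4, 6, 4, 10, 5, 3, 6, 2, 6]⟩,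
  ⟨[24, 23], 574, true, [2, 6, 10, 5, 6, 5, 3, 5, 6]⟩,
  ⟨[24], 633, true, [0, 3, 5, 6, 2, 4, 6, 5, 6, 10]⟩,
  ⟨[23, 24, 23], 1033, false, [4, 6, 2, 5, 6, 2, 4]⟩,
  ⟨[], 1194, false, [6, 5, 6, 2, 5, 6, 4, 10]⟩,
  ⟨[23, 24, 23], 514, false, [0, 2, 6, 5, 10, 5, 6, 4, 5, 10]⟩,
  ⟨[], 1060, false, [4, 6, 2, 6, 10, 5, 6, 4, 5]⟩,
  ⟨[23, 24, 23], 1158, true, [4, 5, 6, 4, 6, 10, 5, 6, 2]⟩,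
  ⟨[23, 24], 1473, false, [3, 5, 6, 4, 6, 4, 5, 3, 6]⟩,
  ⟨[24, 23], 1407, true, [0, 4, 5, 6, 2, 4, 10, 5]⟩,
  ⟨[], 792, true, [1, 4, 6, 5, 6, 2, 6, 4, 10]⟩,
  ⟨[23, 24], 397, true, [1, 2, 10, 5, 6, 5, 6, 4]⟩,
  ⟨[], 1272, true, [0, 4, 6, 2, 4, 10, 5, 6, 4]⟩,
  ⟨[23, 24], 264, true, [0, 3, 4, 6, 5, 6, 5, 3, 5, 6]⟩,
  ⟨[24], 963, true, [0, 4, 5, 6, 4, 6, 4, 10]⟩,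
  ⟨[23], 862, false, [0, 5, 6, 10, 5, 3, 6, 4, 6]⟩,
  ⟨[23, 24], 263, false, [1, 5, 3, 6, 2, 6, 5, 6, 2, 6]⟩,
  ⟨[24], 981, true, [4, 6, 1, 5, 10, 5, 6, 4, 5]⟩,
  ⟨[], 1212, false, [2, 4, 10, 5, 6, 5, 6, 10, 5]⟩,
  ⟨[23], 996, true, [1, 4, 6, 2, 5, 6, 4, 6]⟩,
  ⟨[24], 303, true, [2, 4, 6, 4, 5, 6, 5, 10]⟩,
  ⟨[66, 66, 66, 66, 66, 37, 37], 1633, true, [1, 10, 5, 3, 6, 4, 6, 2, 4]⟩,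
  ⟨[1587, 1587, 1587, 1587, 1587, 1587, 1587, 1587, 1587, 1587, 1549, 1549, 1549, 1549], 1698, true, [2, 10, 5, 3, 6, 1, 4, 6, 5, 6]⟩,
  ⟨[], 1190, true, [0, 6, 5, 3, 6, 4, 6, 2, 5, 6]⟩,
  ⟨[], 2002, true, [1, 4, 5, 3, 6, 5]⟩,
  ⟨[], 1946, false, [5, 3, 6, 5, 6, 4, 6, 2, 10]⟩,
  ⟨[23, 24, 23], 2109, false, [2, 6, 5, 6, 2, 5, 6]⟩,
  ⟨[1958, 1979, 1979, 1979, 1979, 1958, 1979, 1979], 2122, false, [0, 2, 3, 5, 6, 4, 6, 10, 5, 3]⟩,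
  ⟨[], 1526, true, [0, 6, 10, 5, 6, 4, 6, 5, 10]⟩,
  ⟨[], 1284, false, [0, 3, 6, 5, 6, 4, 6, 2, 5]⟩,
  ⟨[], 231, false, [10, 5, 6, 5, 3, 6]⟩,
  ⟨[23], 592, true, [1, 4, 10, 5, 3, 6, 5, 10, 5]⟩,
  ⟨[23, 24], 1524, true, [6, 4, 6, 4, 5, 6, 5, 3, 5]⟩,
  ⟨[23, 24, 23], 1413, true, [1, 2, 6, 5, 6, 4, 6, 2, 5, 10]⟩,
  ⟨[23], 1257, false, [2, 5, 6, 5, 6, 10, 5, 6, 2, 5, 3]⟩,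
  ⟨[24, 23], 2018, false, [0, 5, 3, 6, 4]⟩,
  ⟨[1979, 1979, 1979, 1979, 1958], 1999, false, [3, 4, 6, 1, 5, 6, 4, 10]⟩,
  ⟨[1792, 1792, 1792, 1792, 1792, 1792, 1811, 1811], 1914, false, [6, 2, 6, 4, 5, 6, 2, 6, 2]⟩,
  ⟨[44, 44, 44, 44, 44, 44, 44, 44, 44, 44, 42, 42, 42, 42, 42, 44, 44, 44, 44, 44, 44, 44, 44, 44, 44, 44, 44, 44, 44, 44, 44, 44, 44, 44, 44, 52, 52, 52, 52, 52, 52, 52, 52, 42, 42, 42, 42, 42], 97, false, [4, 6, 5, 6, 4, 10, 5]⟩,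
  ⟨[], 17, true, [3, 5, 3, 6, 2, 6, 5, 6, 10]⟩,
  ⟨[], 16, true, [0, 5, 3, 5, 6, 4, 5, 10]⟩,
  ⟨[13, 12, 11, 11], 54, false, [4, 5, 10, 5, 6, 4, 5, 6, 5, 10]⟩,
  ⟨[], 7, true, [0, 6, 4, 5, 10, 5, 6, 2, 5, 6, 5]⟩]

theorem prime31 : primeOK 31 [10, 12, 11, 12, 14, 0, 2, 8, 4, 14, 10, 10, 6, 14] uses31 = true := by decide +kernel

theorem dvd31 : 31 ∣ Nat.card Cfsg.Spor.Th := prime_dvd (by norm_num) prime31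

end CfsgLib.Sporadic.ThPres.Lower
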