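import Cfsg.Agent.Lib.Sporadic.ThPres.Lower.ThreeData

set_option autoImplicit false
set_option maxRecDepth 20000
set_option Elab.async false

/-! Checks for the subgroup of order 3^10 (generated; owner: helper9). -/

namespace CfsgLib.Sporadic.ThPres.Lower

theorem base3 : baseOK 3 5 gens3 lvls3 es3 = true := by decide +kernel

theorem rels3_at0 : relsOK 3 gens3 rels3 0 1 = true := by decide +kernel

theorem rels3_at1 : relsOK 3 gens3 rels3 1 1 = true := by decide +kernel

theorem rels3_at2 : relsOK 3 gens3 rels3 2 1 = true := by decide +kernel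

theorem rels3_at3 : relsOK 3 gens3 rels3 3 1 = true := by decide +kernel

theorem rels3_at4 : relsOK 3 gens3 rels3 4 1 = true := by decide +kernel

theorem rels3_at5 : relsOK 3 gens3 rels3 5 1 = true := by decide +kernel

theorem rels3_at6 : relsOK 3 gens3 rels3 6 1 = true := by decide +kernel

theorem rels3_at7 : relsOK 3 gens3 rels3 7 1 = true := by decide +kernel

theorem rels3_at8 : relsOK 3 gens3 rels3 8 1 = true := by decide +kernel

theorem rels3_at9 : relsOK 3 gens3 rels3 9 1 = true := by decide +kernel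

theorem rels3_ok : relsOK 3 gens3 rels3 0 10 = true := by
  have h1 := rels3_at0
  have h2 := relsOK_cat (l := 2) h1 rels3_at1 rfl rfl
  have h3 := relsOK_cat (l := 3) h2 rels3_at2 rfl rfl
  have h4 := relsOK_cat (l := 4) h3 rels3_at3 rfl rfl
  have h5 := relsOK_cat (l := 5) h4 rels3_at4 rfl rfl
  have h6 := relsOK_cat (l := 6) h5 rels3_at5 rfl rfl
  have h7 := relsOK_cat (l := 7) h6 rels3_at6 rfl rfl
  have h8 := relsOK_cat (l := 8) h7 rels3_at7 rfl rfl
  have h9 := relsOK_cat (l := 9) h8 rels3_at8 rfl rfl
  have h10 := relsOK_cat (l := 10) h9 rels3_at9 rfl rfl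
  exact h10

theorem top3_5_0 : topPart 3 gens3 5 5 0 1 = true := by decide +kernel

theorem exps3_5 : (exps 3 (5 - 5)).length = 1 := by decide +kernel

theorem top3_5 : topPart 3 gens3 5 5 0 (exps 3 (5 - 5)).length = true := by
  rw [exps3_5]
  have h0 := top3_5_0
  exact h0

theorem top3_6_0 : topPart 3 gens3 5 6 0 3 = true := by decide +kernel

theorem exps3_6 : (exps 3 (6 - 5)).length = 3 := by decide +kernel

theorem top3_6 : topPart 3 gens3 5 6 0 (exps 3 (6 - 5)).length = true := by
  rw [exps3_6]
  have h0 := top3_6_0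
  exact h0

theorem top3_7_0 : topPart 3 gens3 5 7 0 9 = true := by decide +kernel

theorem exps3_7 : (exps 3 (7 - 5)).length = 9 := by decide +kernel

theorem top3_7 : topPart 3 gens3 5 7 0 (exps 3 (7 - 5)).length = true := by
  rw [exps3_7]
  have h0 := top3_7_0
  exact h0

theorem top3_8_0 : topPart 3 gens3 5 8 0 20 = true := by decide +kernel

theorem top3_8_20 : topPart 3 gens3 5 8 20 7 = true := by decide +kernel

theorem exps3_8 : (exps 3 (8 - 5)).length = 27 := by decide +kernel

theorem top3_8 : topPart 3 gens3 5 8 0 (exps 3 (8 - 5)).length = true := by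
  rw [exps3_8]
  have h0 := top3_8_0
  have h1 := topPart_cat (l := 27) h0 top3_8_20 rfl rfl
  exact h1

theorem top3_9_0 : topPart 3 gens3 5 9 0 20 = true := by decide +kernel

theorem top3_9_20 : topPart 3 gens3 5 9 20 20 = true := by decide +kernel

theorem top3_9_40 : topPart 3 gens3 5 9 40 20 = true := by decide +kernel

theorem top3_9_60 : topPart 3 gens3 5 9 60 20 = true := by decide +kernel

theorem top3_9_80 : topPart 3 gens3 5 9 80 1 = true := by decide +kernel

theorem exps3_9 : (exps 3 (9 - 5)).length = 81 := by decide +kernel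

theorem top3_9 : topPart 3 gens3 5 9 0 (exps 3 (9 - 5)).length = true := by
  rw [exps3_9]
  have h0 := top3_9_0
  have h1 := topPart_cat (l := 40) h0 top3_9_20 rfl rfl
  have h2 := topPart_cat (l := 60) h1 top3_9_40 rfl rfl
  have h3 := topPart_cat (l := 80) h2 top3_9_60 rfl rfl
  have h4 := topPart_cat (l := 81) h3 top3_9_80 rfl rfl
  exact h4

theorem dvd3 : 3 ^ 10 ∣ Nat.card Cfsg.Spor.Th := by
  refine pow_dvd (by norm_num) rels3_ok (by norm_num) base3 fun i h1 h2 => ?_
  interval_cases i
  exacts [top3_5, top3_6, top3_7, top3_8, top3_9]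

end CfsgLib.Sporadic.ThPres.Lower
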