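import Cfsg.Agent.Lib.Sporadic.ThPres.Lower.Two
import Cfsg.Agent.Lib.Sporadic.ThPres.Lower.Three
import Cfsg.Agent.Lib.Sporadic.ThPres.Lower.Five
import Cfsg.Agent.Lib.Sporadic.ThPres.Lower.Primes

/-!
# The order of the presented Thompson group and the index of its 3D4(2):3 subgroup (owner: helper9)
-/

set_option autoImplicit false
set_option maxRecDepth 20000

namespace CfsgLib.Sporadic.ThPres

open Cfsg

theorem card_Th : Nat.card Spor.Th = 90745943887872000 := by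
  have hs : 634023936 ∣ Nat.card Spor.Th := card_Hs ▸ Subgroup.card_subgroup_dvd_card Hs
  have h7 : 7 ^ 2 ∣ Nat.card Spor.Th := (by norm_num : 7 ^ 2 ∣ 634023936).trans hs
  have h13 : 13 ∣ Nat.card Spor.Th := (by norm_num : 13 ∣ 634023936).trans hs
  have h : 2 ^ 15 * 3 ^ 10 * 5 ^ 3 * 7 ^ 2 * 13 * 19 * 31 ∣ Nat.card Spor.Th :=
    Nat.Coprime.mul_dvd_of_dvd_of_dvd (by norm_num) (Nat.Coprime.mul_dvd_of_dvd_of_dvd (by norm_num)
      (Nat.Coprime.mul_dvd_of_dvd_of_dvd (by norm_num) (Nat.Coprime.mul_dvd_of_dvd_of_dvd (by norm_num)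
        (Nat.Coprime.mul_dvd_of_dvd_of_dvd (by norm_num) (Nat.Coprime.mul_dvd_of_dvd_of_dvd (by norm_num)
          Lower.dvd2 Lower.dvd3) Lower.dvd5) h7) h13) Lower.dvd19) Lower.dvd31
  have hle := card_le
  have := Nat.le_of_dvd Nat.card_pos h
  norm_num at this
  omega

theorem index_Hs : (Hs : Subgroup Spor.Th).index = 143127000 := by
  have h := (Hs : Subgroup Spor.Th).index_mul_card
  rw [card_Th, card_Hs] at h
  exact Nat.eq_of_mul_eq_mul_right (show 0 < 634023936 by norm_num)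
    (h.trans (show 90745943887872000 = 143127000 * 634023936 by norm_num))

theorem range_toTh : (Hs : Subgroup Spor.Th) = (Subgroup.closure ({Spor.Th.a, Spor.Th.b, Spor.Th.c, Spor.Th.d,
    Spor.Th.e, Spor.Th.s, Spor.Th.t} : Set (FreeGroup Spor.Th.Gen))).map
      (PresentedGroup.mk (Spor.coxRelators Spor.Th.edges ∪ {r | r ∈ Spor.Th.extra})) := by
  have e : ∀ g : Spor.Th.Gen, (PresentedGroup.of g : Spor.Th) = thL (code (g, true)) := fun g =>
    (thL_code (g, true)).symm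
  rw [Hs, MonoidHom.range_eq_map, ← L_closure, MonoidHom.map_closure, MonoidHom.map_closure]
  congr 1
  ext g
  constructor
  · rintro ⟨_, ⟨k, hk, rfl⟩, rfl⟩
    simp only [List.mem_cons, List.not_mem_nil, or_false] at hk
    rcases hk with rfl | rfl | rfl | rfl | rfl | rfl | rfl
    exacts [⟨_, by simp, (e .a).trans (toTh_L (by decide)).symm⟩, ⟨_, by simp, (e .b).trans (toTh_L (by decide)).symm⟩,
      ⟨_, by simp, (e .c).trans (toTh_L (by decide)).symm⟩, ⟨_, by simp, (e .d).trans (toTh_L (by decide)).symm⟩,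
      ⟨_, by simp, (e .e).trans (toTh_L (by decide)).symm⟩, ⟨_, by simp, (e .s).trans (toTh_L (by decide)).symm⟩,
      ⟨_, by simp, (e .t).trans (toTh_L (by decide)).symm⟩]
  · rintro ⟨r, hr, rfl⟩
    simp only [Set.mem_insert_iff, Set.mem_singleton_iff] at hr
    rcases hr with rfl | rfl | rfl | rfl | rfl | rfl | rfl
    exacts [⟨L 0, ⟨0, by simp, rfl⟩, (toTh_L (by norm_num)).trans (e .a).symm⟩,
      ⟨L 2, ⟨2, by simp, rfl⟩, (toTh_L (by norm_num)).trans (e .b).symm⟩,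
      ⟨L 4, ⟨4, by simp, rfl⟩, (toTh_L (by norm_num)).trans (e .c).symm⟩,
      ⟨L 6, ⟨6, by simp, rfl⟩, (toTh_L (by norm_num)).trans (e .d).symm⟩,
      ⟨L 8, ⟨8, by simp, rfl⟩, (toTh_L (by norm_num)).trans (e .e).symm⟩,
      ⟨L 10, ⟨10, by simp, rfl⟩, (toTh_L (by norm_num)).trans (e .s).symm⟩,
      ⟨L 12, ⟨12, by simp, rfl⟩, (toTh_L (by norm_num)).trans (e .t).symm⟩]

end CfsgLib.Sporadic.ThPres
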