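import Cfsg.Agent.Lib.Sporadic.ThPres.Lower.Vec
import Cfsg.Agent.Lib.Sporadic.ThPres.Close

/-!
# Subgroups of prime power order from traced relations (owner: helper9; step argument after helper25)

The first generators lie in the subgroup on seven generators and are counted on 819 points; every further one
lies outside that subgroup times the products of the earlier ones of that kind.
-/

set_option autoImplicit false
set_option maxRecDepth 20000
set_option Elab.async false

namespace CfsgLib.Sporadic.ThPres.Lower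

open Cfsg CfsgLib.Sporadic

/-- A generator. -/
noncomputable def genV (G : List (List ℕ)) (j : ℕ) : Spor.Th := ((G.getD j []).map thL).prod

/-- The subgroup of the first generators. -/
noncomputable def spanG (G : List (List ℕ)) (i : ℕ) : Subgroup Spor.Th :=
  Subgroup.closure {g | ∃ j < i, g = genV G j}

/-- The product of powers of the generators. -/
noncomputable def powWord (G : List (List ℕ)) (e : List ℕ) : List ℕ :=
  (List.range e.length).flatMap fun q => (List.replicate (e.getD q 0) (G.getD q [])).flatten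

/-- One relation. -/
noncomputable def relOK (p : ℕ) (G : List (List ℕ)) (i : ℕ) (rels : List (List ℕ × List Use)) (j : ℕ) : Bool :=
  let g := G.getD i []
  let r := rels.getD j ([], [])
  let l := cond (Nat.beq j i) ((List.replicate p g).flatten) (PairEnum.winv g ++ G.getD j [] ++ g)
  Nat.ble r.1.length i && isOne factTree 2197 (l ++ PairEnum.winv (powWord G r.1)) r.2

/-- All relations of the steps `lo, …, lo + len - 1`. -/
noncomputable def relsOK (p : ℕ) (G : List (List ℕ)) (rels : List (List (List ℕ × List Use))) (lo len : ℕ) : Bool :=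
  (List.range' lo len).all fun i => (List.range (i + 1)).all fun j => relOK p G i (rels.getD i []) j

theorem relsOK_cat {p : ℕ} {G : List (List ℕ)} {rels : List (List (List ℕ × List Use))} {a m b n l : ℕ}
    (h1 : relsOK p G rels a m = true) (h2 : relsOK p G rels b n = true) (hb : a + m = b) (hl : m + n = l) :
    relsOK p G rels a l = true := by
  subst hb hl
  unfold relsOK at *
  rw [← List.range'_append_1, List.all_append, h1, h2]; rfl

theorem relsOK_elim {p : ℕ} {G : List (List ℕ)} {rels : List (List (List ℕ × List Use))} {n i j : ℕ}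
    (h : relsOK p G rels 0 n = true) (hi : i < n) (hj : j ≤ i) : relOK p G i (rels.getD i []) j = true := by
  have h := List.all_eq_true.1 h i (by simp [List.mem_range'_1]; omega)
  exact List.all_eq_true.1 h j (List.mem_range.2 (by omega))

/-- The value of a power word. -/
theorem powWord_mem {G : List (List ℕ)} {i : ℕ} {e : List ℕ} (he : e.length ≤ i) :
    ((powWord G e).map thL).prod ∈ spanG G i := by
  unfold powWord
  have : ∀ q ∈ List.range e.length, q < i := fun q hq => by rw [List.mem_range] at hq; omega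
  revert this
  generalize List.range e.length = qs
  intro hqs
  induction qs with
  | nil => simpa using one_mem _
  | cons q qs ih =>
    rw [List.flatMap_cons, List.map_append, List.prod_append]
    refine mul_mem ?_ (ih fun q' hq' => hqs q' (List.mem_cons_of_mem _ hq'))
    induction e.getD q 0 with
    | zero => simpa using one_mem _
    | succ n ihn =>
      rw [List.replicate_succ, List.flatten_cons, List.map_append, List.prod_append]
      exact mul_mem (Subgroup.subset_closure ⟨q, hqs q List.mem_cons_self, rfl⟩) ihn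

theorem prod_replicate (g : List ℕ) : ∀ n, (((List.replicate n g).flatten).map thL).prod = (g.map thL).prod ^ n
  | 0 => by simp
  | n + 1 => by rw [List.replicate_succ, List.flatten_cons, List.map_append, List.prod_append, prod_replicate g n, pow_succ']

/-- Adjoining a generator. -/
theorem step {p : ℕ} (hp : p.Prime) {G : List (List ℕ)} {rels : List (List (List ℕ × List Use))} {n i : ℕ}
    (h : relsOK p G rels 0 n = true) (hi : i < n) :
    (∀ z ∈ spanG G (i + 1), ∃ c ∈ spanG G i, ∃ k < p, z = c * genV G i ^ k) ∧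
      Nat.card (spanG G (i + 1)) ≤ p * Nat.card (spanG G i) ∧
      (genV G i ∉ spanG G i → Nat.card (spanG G (i + 1)) = p * Nat.card (spanG G i)) := by
  classical
  have hr : ∀ j ≤ i, (((cond (Nat.beq j i) ((List.replicate p (G.getD i [])).flatten)
      (PairEnum.winv (G.getD i []) ++ G.getD j [] ++ G.getD i []))).map thL).prod ∈ spanG G i := by
    intro j hj
    have h' := relsOK_elim h hi hj
    simp only [relOK, Bool.and_eq_true, Nat.ble_eq] at h'
    have h1 := isOne_sound pairsHold reps_first.1 holds h'.2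
    rw [List.map_append, List.prod_append, PairEnum.prod_winv thL_flp, mul_inv_eq_one] at h1
    rw [h1]
    exact powWord_mem h'.1
  set H := spanG G i with hH
  set a := genV G i with ha
  have hconj : ∀ j < i, a⁻¹ * genV G j * a ∈ H := by
    intro j hj
    have h' := hr j hj.le
    rw [show Nat.beq j i = false from by
      cases hb : Nat.beq j i with
      | false => rfl
      | true => exact absurd (Nat.eq_of_beq_eq_true hb) (by omega), cond_false, List.map_append, List.map_append,
      List.prod_append, List.prod_append, PairEnum.prod_winv thL_flp] at h'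
    exact h'
  have hpow : a ^ p ∈ H := by
    have h' := hr i le_rfl
    rw [show Nat.beq i i = true by simp, cond_true, prod_replicate] at h'
    exact h'
  have hconj' : ∀ b ∈ H, a⁻¹ * b * a ∈ H := by
    intro b hb
    have hle : H ≤ H.comap (MulAut.conj a⁻¹).toMonoidHom := by
      rw [hH, spanG, Subgroup.closure_le]
      rintro _ ⟨j, hj, rfl⟩
      have := hconj j hj
      simpa [MulAut.conj_apply, hH, spanG] using this
    simpa [MulAut.conj_apply] using hle hb
  have hshift : ∀ k : ℕ, ∀ b ∈ H, a ^ k * b * (a ^ k)⁻¹ ∈ H := by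
    have h1 : ∀ k : ℕ, ∀ b ∈ H, (a ^ k)⁻¹ * b * a ^ k ∈ H := by
      intro k
      induction k with
      | zero => simpa using fun b hb => hb
      | succ k ih =>
        intro b hb
        have := hconj' _ (ih b hb)
        convert this using 1
        rw [pow_succ]
        group
    intro k b hb
    obtain ⟨m, hm⟩ : ∃ m : ℕ, a ^ k = (a ^ m)⁻¹ := by
      refine ⟨orderOf a * k - k, eq_inv_of_mul_eq_one_left ?_⟩
      rw [← pow_add, Nat.add_sub_cancel' (Nat.le_mul_of_pos_left k (orderOf_pos a)), pow_mul, pow_orderOf_eq_one,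
        one_pow]
    rw [hm, inv_inv]
    exact h1 m b hb
  have hmod : ∀ k : ℕ, ∃ c ∈ H, a ^ k = c * a ^ (k % p) := fun k => by
    refine ⟨(a ^ p) ^ (k / p), pow_mem hpow _, ?_⟩
    rw [← pow_mul, ← pow_add, Nat.div_add_mod]
  have hsucc : spanG G (i + 1) = H ⊔ Subgroup.zpowers a := by
    refine le_antisymm ?_ (sup_le (Subgroup.closure_mono ?_) ?_)
    · rw [spanG, Subgroup.closure_le]
      rintro _ ⟨j, hj, rfl⟩
      rcases Nat.lt_or_ge j i with hji | hji
      · exact Subgroup.mem_sup_left (Subgroup.subset_closure ⟨j, hji, rfl⟩)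
      · obtain rfl : j = i := by omega
        exact Subgroup.mem_sup_right (Subgroup.mem_zpowers _)
    · rintro _ ⟨j, hj, rfl⟩; exact ⟨j, by omega, rfl⟩
    · exact Subgroup.zpowers_le.2 (Subgroup.subset_closure ⟨i, by omega, rfl⟩)
  have hk' : ∀ x : H × Fin p, x.1.1 * a ^ (x.2 : ℕ) ∈ spanG G (i + 1) := fun x => by
    rw [hsucc]; exact mul_mem (Subgroup.mem_sup_left x.1.2) (Subgroup.mem_sup_right
      (Subgroup.npow_mem_zpowers a _))
  let f : H × Fin p → ↥(spanG G (i + 1)) := fun x => ⟨_, hk' x⟩
  have hinj : a ∉ H → Function.Injective f := by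
    intro hnotin
    rintro ⟨b, k⟩ ⟨b', k'⟩ he
    have he' : (b : Spor.Th) * a ^ (k : ℕ) = b' * a ^ (k' : ℕ) := congrArg Subtype.val he
    have hk : ∀ {c c' : H} {m m' : Fin p}, (c : Spor.Th) * a ^ (m : ℕ) = c' * a ^ (m' : ℕ) → (m : ℕ) ≤ m' → m = m' := by
      intro c c' m m' hcc hle
      by_contra hne
      have hd : a ^ ((m' : ℕ) - m) ∈ H := by
        have hh : a ^ ((m' : ℕ) - m) = (c' : Spor.Th)⁻¹ * c := by
          rw [eq_inv_mul_iff_mul_eq]
          apply mul_right_cancel (b := a ^ (m : ℕ))
          rw [mul_assoc, ← pow_add, Nat.sub_add_cancel hle, hcc]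
        rw [hh]; exact mul_mem (inv_mem c'.2) c.2
      have hcop : Nat.Coprime ((m' : ℕ) - m) p := by
        refine (Nat.coprime_comm.1 ((Nat.Prime.coprime_iff_not_dvd hp).2 fun hdvd => ?_))
        have hm' := m'.2
        rcases Nat.eq_zero_or_pos ((m' : ℕ) - m) with h0 | h0
        · exact hne (Fin.ext (by omega))
        · have := Nat.le_of_dvd h0 hdvd; omega
      refine hnotin ?_
      have hb := Int.gcd_eq_gcd_ab (((m' : ℕ) - m : ℕ) : ℤ) (p : ℤ)
      rw [Int.gcd_natCast_natCast, hcop] at hb
      have : a = (a ^ ((m' : ℕ) - m)) ^ (Int.gcdA (((m' : ℕ) - m : ℕ) : ℤ) p) *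
          (a ^ p) ^ (Int.gcdB (((m' : ℕ) - m : ℕ) : ℤ) p) := by
        rw [← zpow_natCast, ← zpow_natCast a p, ← zpow_mul, ← zpow_mul, ← zpow_add, ← hb, Nat.cast_one, zpow_one]
      rw [this]; exact mul_mem (zpow_mem hd _) (zpow_mem hpow _)
    have hkk : k = k' := by
      rcases Nat.le_total (k : ℕ) k' with hl | hl
      · exact hk he' hl
      · exact (hk he'.symm hl).symm
    subst hkk
    exact Prod.ext (Subtype.ext (mul_right_cancel he')) rfl
  have hdec : ∀ z ∈ H ⊔ Subgroup.zpowers a, ∃ c ∈ H, ∃ k : ℕ, z = c * a ^ k := by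
    intro z hz
    rw [Subgroup.sup_eq_closure] at hz
    induction hz using Subgroup.closure_induction with
    | mem x hx =>
      rcases hx with hx | hx
      · exact ⟨x, hx, 0, by simp⟩
      · obtain ⟨k, rfl⟩ := (mem_powers_iff_mem_zpowers.2 hx : x ∈ Submonoid.powers a)
        exact ⟨1, one_mem H, k, by simp⟩
    | one => exact ⟨1, one_mem H, 0, by simp⟩
    | mul x y _ _ hx hy =>
      obtain ⟨c, hc, k, rfl⟩ := hx
      obtain ⟨c', hc', k', rfl⟩ := hy
      refine ⟨c * (a ^ k * c' * (a ^ k)⁻¹), mul_mem hc (hshift k c' hc'), k + k', ?_⟩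
      rw [pow_add]; group
    | inv x _ hx =>
      obtain ⟨c, hc, k, rfl⟩ := hx
      obtain ⟨m, hm⟩ : ∃ m : ℕ, (a ^ k)⁻¹ = a ^ m :=
        (mem_powers_iff_mem_zpowers.2 (inv_mem (Subgroup.npow_mem_zpowers a k))).imp fun m h => h.symm
      refine ⟨a ^ m * c⁻¹ * (a ^ m)⁻¹, hshift m _ (inv_mem hc), m, ?_⟩
      rw [mul_inv_rev, hm]; group
  have hz : ∀ z ∈ spanG G (i + 1), ∃ c ∈ H, ∃ k < p, z = c * a ^ k := by
    intro z hz
    obtain ⟨c, hc, k, rfl⟩ := hdec z (hsucc ▸ hz)
    obtain ⟨c', hc', hk⟩ := hmod k
    refine ⟨c * c', mul_mem hc hc', k % p, Nat.mod_lt _ hp.pos, ?_⟩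
    conv_lhs => rw [hk]
    rw [mul_assoc]
  have hsurj : Function.Surjective f := by
    rintro ⟨z, hz'⟩
    obtain ⟨c, hc, k, hk, rfl⟩ := hz z hz'
    exact ⟨(⟨c, hc⟩, ⟨k, hk⟩), Subtype.ext rfl⟩
  have hfin : Nat.card (H × Fin p) = p * Nat.card H := by rw [Nat.card_prod, Nat.card_fin, mul_comm]
  refine ⟨hz, hfin ▸ Nat.card_le_card_of_surjective f hsurj, fun hn => ?_⟩
  rw [← hfin, ← Nat.card_congr (Equiv.ofBijective f ⟨hinj hn, hsurj⟩)]

theorem card_span_zero (G : List (List ℕ)) : Nat.card (spanG G 0) = 1 := by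
  have : spanG G 0 = ⊥ := by rw [spanG, Subgroup.closure_eq_bot_iff]; rintro _ ⟨j, hj, rfl⟩; omega
  rw [this, Subgroup.card_bot]

/-- The first generators are words in the seven letters; levels on 819 points from their power words. -/
noncomputable def baseOK (p b : ℕ) (G : List (List ℕ)) (ls : List Lvl) (es : List (List ℕ)) : Bool :=
  lvlsOK (rImg img819) 819 10 ls && (Nat.beq (orbitProd ls) (p ^ b) &&
    ((List.range b).all (fun j => (G.getD j []).all fun k => Nat.blt k 14) &&
    (decide (gensOf ls = es.map (powWord G)) && es.all fun e => Nat.ble e.length b)))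

theorem base_card {p : ℕ} (hp : p.Prime) {b n : ℕ} {G : List (List ℕ)} {rels : List (List (List ℕ × List Use))}
    {ls : List Lvl} {es : List (List ℕ)} (hr : relsOK p G rels 0 n = true) (hb : b ≤ n)
    (h : baseOK p b G ls es = true) : spanG G b ≤ Hs ∧ Nat.card (spanG G b) = p ^ b := by
  simp only [baseOK, Bool.and_eq_true, Nat.beq_eq, List.all_eq_true, List.mem_range, Nat.blt_eq, decide_eq_true_eq,
    Nat.ble_eq] at h
  obtain ⟨hl, hprod, hG, hgens, hes⟩ := h
  have hgen : ∀ j < b, toTh ((G.getD j []).map L).prod = genV G j := fun j hj => by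
    rw [map_list_prod, List.map_map, genV]
    exact congrArg List.prod (List.map_congr_left fun k hk => toTh_L (hG j hj k hk))
  have hHs : spanG G b ≤ Hs := (Subgroup.closure_le _).2 (by rintro _ ⟨j, hj, rfl⟩; exact ⟨_, hgen j hj⟩)
  have hle : ∀ i ≤ b, Nat.card (spanG G i) ≤ p ^ i := by
    intro i hi
    induction i with
    | zero => rw [card_span_zero, pow_zero]
    | succ i ih =>
      rw [pow_succ']
      exact (step hp hr (show i < n by omega)).2.1.trans (Nat.mul_le_mul_left _ (ih (by omega)))
  refine ⟨hHs, le_antisymm (hle b le_rfl) ?_⟩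
  set K : Subgroup P0 := (spanG G b).comap toTh with hK
  have hlt : ∀ e ∈ es, ∀ k ∈ powWord G e, k < 14 := by
    intro e he k hk
    simp only [powWord, List.mem_flatMap, List.mem_range, List.mem_flatten, List.mem_replicate] at hk
    obtain ⟨q, hq, l, ⟨-, rfl⟩, hk⟩ := hk
    exact hG q (lt_of_lt_of_le hq (hes e he)) k hk
  have hmem : ∀ w ∈ gensOf ls, (∀ k ∈ w, k < 14) ∧ (w.map L).prod ∈ K := by
    intro w hw
    rw [hgens] at hw
    obtain ⟨e, he, rfl⟩ := List.mem_map.1 hw
    refine ⟨hlt e he, ?_⟩
    rw [hK, Subgroup.mem_comap, map_list_prod, List.map_map,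
      List.map_congr_left (f := toTh ∘ L) (g := thL) fun k hk => toTh_L (hlt e he k hk)]
    exact powWord_mem (hes e he)
  have hle' := orbitProd_le t819 (fun w => (w.map L).prod) (rImg img819) 10 (fun w => ∀ k ∈ w, k < 14)
    (fun w hw x hx => t819.ract_prod hw hx) K hl (fun w hw => (hmem w hw).1) fun w hw => (hmem w hw).2
  rw [hprod] at hle'
  refine (Nat.le_mul_of_pos_right _ Nat.card_pos).trans (hle'.trans ?_)
  exact Nat.card_le_card_of_injective (fun x : K => (⟨toTh x.1, x.2⟩ : spanG G b))
    fun x y e => Subtype.ext (toTh_injective (congrArg Subtype.val e))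

/-- All exponent lists of a length. -/
noncomputable def exps (p : ℕ) : ℕ → List (List ℕ) :=
  Nat.rec (motive := fun _ => List (List ℕ)) [[]] fun _ ih => ih.flatMap fun e => (List.range p).map fun k => e ++ [k]

theorem exps_succ_mem {p m k : ℕ} {e : List ℕ} (he : e ∈ exps p m) (hk : k < p) : e ++ [k] ∈ exps p (m + 1) :=
  List.mem_flatMap.2 ⟨e, he, List.mem_map.2 ⟨k, List.mem_range.2 hk, rfl⟩⟩

theorem exps_length {p : ℕ} : ∀ {m : ℕ} {e : List ℕ}, e ∈ exps p m → e.length = m
  | 0, e, he => by simp [exps] at he; simp [he]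
  | m + 1, e, he => by
    obtain ⟨e', he', he⟩ := List.mem_flatMap.1 he
    obtain ⟨k, -, rfl⟩ := List.mem_map.1 he
    simp [exps_length he']

/-- Tests `lo, …, lo + len - 1` of a step outside. -/
noncomputable def topPart (p : ℕ) (G : List (List ℕ)) (b i lo len : ℕ) : Bool :=
  (List.range' lo len).all fun q => outW (G.getD i [] ++ PairEnum.winv (powWord (G.drop b) ((exps p (i - b)).getD q [])))

theorem topPart_cat {p : ℕ} {G : List (List ℕ)} {c i a m b n l : ℕ}
    (h1 : topPart p G c i a m = true) (h2 : topPart p G c i b n = true) (hb : a + m = b) (hl : m + n = l) :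
    topPart p G c i a l = true := by
  subst hb hl
  unfold topPart at *
  rw [← List.range'_append_1, List.all_append, h1, h2]; rfl

theorem powWord_snoc (G : List (List ℕ)) (e : List ℕ) (k : ℕ) :
    powWord G (e ++ [k]) = powWord G e ++ (List.replicate k (G.getD e.length [])).flatten := by
  unfold powWord
  rw [List.length_append, List.length_singleton, List.range_succ, List.flatMap_append]
  congr 1
  · refine List.flatMap_congr fun q hq => ?_
    rw [List.getD_append _ _ _ _ (List.mem_range.1 hq)]
  · simp [List.flatMap_cons]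

theorem pow_dvd {p : ℕ} (hp : p.Prime) {b n : ℕ} {G : List (List ℕ)} {rels : List (List (List ℕ × List Use))}
    {ls : List Lvl} {es : List (List ℕ)} (hr : relsOK p G rels 0 n = true) (hb : b ≤ n)
    (hbase : baseOK p b G ls es = true)
    (htop : ∀ i, b ≤ i → i < n → topPart p G b i 0 ((exps p (i - b)).length) = true) :
    p ^ n ∣ Nat.card Spor.Th := by
  obtain ⟨hHs, hcard⟩ := base_card hp hr hb hbase
  have key : ∀ m, b + m ≤ n → Nat.card (spanG G (b + m)) = p ^ (b + m) ∧ ∀ z ∈ spanG G (b + m),
      ∃ h ∈ Hs, ∃ e ∈ exps p m, z = h * ((powWord (G.drop b) e).map thL).prod := by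
    intro m hm
    induction m with
    | zero => exact ⟨hcard, fun z hz => ⟨z, hHs hz, [], by simp [exps], by simp [powWord]⟩⟩
    | succ m ih =>
      obtain ⟨hc, hdec⟩ := ih (by omega)
      have hi : b + m < n := by omega
      have hnotin : genV G (b + m) ∉ spanG G (b + m) := by
        intro hin
        obtain ⟨h, hh, e, he, heq⟩ := hdec _ hin
        obtain ⟨q, hq, rfl⟩ := List.mem_iff_getElem.1 he
        have ht := htop (b + m) (by omega) hi
        simp only [topPart, List.all_eq_true, List.mem_range'_1] at ht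
        rw [Nat.add_sub_cancel_left] at ht
        have ht := outW_sound (ht q ⟨Nat.zero_le _, by omega⟩)
        rw [List.getD_eq_getElem _ _ hq, List.map_append, List.prod_append, PairEnum.prod_winv thL_flp,
          ← genV, heq, mul_inv_cancel_right] at ht
        exact ht hh
      obtain ⟨hz, -, heq⟩ := step hp hr hi
      refine ⟨by rw [← Nat.add_assoc, heq hnotin, hc, pow_succ'], fun z hz' => ?_⟩
      obtain ⟨c, hc', k, hk, rfl⟩ := hz z hz'
      obtain ⟨h, hh, e, he, rfl⟩ := hdec c hc'
      refine ⟨h, hh, e ++ [k], exps_succ_mem he hk, ?_⟩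
      rw [powWord_snoc, exps_length he, List.map_append, List.prod_append, prod_replicate, genV, ← mul_assoc]
      congr 3
      rw [List.getD_eq_getElem?_getD, List.getD_eq_getElem?_getD, List.getElem?_drop]
  obtain ⟨m, rfl⟩ := Nat.exists_eq_add_of_le hb
  rw [← (key m le_rfl).1]
  exact Subgroup.card_subgroup_dvd_card _

/-- A word moving a vector with trivial prime power. -/
noncomputable def primeOK (p : ℕ) (g : List ℕ) (us : List Use) : Bool :=
  g.all (fun k => Nat.blt k 16) && (!(Nat.beq (vwordP g vecP) vecP) &&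
    isOne factTree 2197 (List.replicate p g).flatten us)

theorem prime_dvd {p : ℕ} (hp : p.Prime) {g : List ℕ} {us : List Use} (h : primeOK p g us = true) :
    p ∣ Nat.card Spor.Th := by
  simp only [primeOK, Bool.and_eq_true, List.all_eq_true, Nat.blt_eq, Bool.not_eq_true'] at h
  obtain ⟨hg, hne, hone⟩ := h
  have hne1 : (g.map thL).prod ≠ 1 := by
    intro e
    obtain ⟨f, hf⟩ := vecP_eq
    have hm : g.map matE = g.map Rep.mat := List.map_congr_left fun x hx => matE_eq (hg x hx)
    have hone' : (g.map Rep.mat).prod = 1 := by rw [← Rep.rho_prod_val hg, e, map_one, Units.val_one]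
    rw [hf, vwordP_eq (fun x hx => (hg x hx).trans (by norm_num)), hm, hone', Matrix.vecMul_one, Nat.beq_refl] at hne
    simp at hne
  have hpow := isOne_sound pairsHold reps_first.1 holds hone
  rw [prod_replicate] at hpow
  have : _root_.Fact p.Prime := ⟨hp⟩
  exact orderOf_eq_prime hpow hne1 ▸ orderOf_dvd_natCard _

end CfsgLib.Sporadic.ThPres.Lower
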