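import Cfsg.Agent.Lib.Sporadic.ThPres.Lower.Simple
import Cfsg.Statements.S0464

/-!
# The Thompson group in degree 248 over three elements (owner: helper9)
-/

set_option autoImplicit false
set_option maxRecDepth 20000

namespace CfsgLib.Sporadic.ThPres

open Cfsg

theorem isTh_of_equiv {G : Type*} [Group G] (e : Spor.Th ≃* G) : IsTh G := by
  refine ⟨?_, (Nat.card_congr e.symm.toEquiv).trans card_Th⟩
  have := simple_Th
  exact e.symm.isSimpleGroup

theorem is3D4_of_equiv {G : Type*} [Group G] (e : ↥P1 ≃* G) : Is3D4 G := by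
  have := P1_simple
  refine ⟨e.symm.isSimpleGroup, 2, Nat.prime_two.isPrimePow, ?_⟩
  rw [← Nat.card_congr e.toEquiv, card_P1]
  norm_num

theorem exists_index_containing {G H : Type*} [Group G] [Group H] (e : G ≃* H) {K : Subgroup G} {n : ℕ}
    (hK : K.index = n) (L : Subgroup G) (hL : L ≤ K) :
    ∃ K' : Subgroup H, K'.index = n ∧ ∃ L' : Subgroup H, L' ≤ K' ∧ Nonempty (↥L ≃* ↥L') :=
  ⟨K.map e.toMonoidHom, (Subgroup.index_map_equiv K e).trans hK, L.map e.toMonoidHom, Subgroup.map_mono hL,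
    ⟨e.subgroupMap L⟩⟩

theorem realization_of_injective {M : Type*} [Group M] (r : Spor.Th →* M) (hr : Function.Injective r) :
    ∃ H : Subgroup M, IsTh H ∧ ∃ K : Subgroup H, K.index = 143127000 ∧ ∃ L : Subgroup H, L ≤ K ∧ Is3D4 L := by
  obtain ⟨K, hK, L, hLK, ⟨f⟩⟩ := exists_index_containing (MonoidHom.ofInjective hr) index_Hs (P1.map toTh) (by
    rintro _ ⟨p, -, rfl⟩
    exact ⟨p, rfl⟩)
  exact ⟨r.range, isTh_of_equiv (MonoidHom.ofInjective hr), K, hK, L, hLK,
    is3D4_of_equiv ((P1.equivMapOfInjective toTh toTh_injective).trans f)⟩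

theorem realization : ∃ H : Subgroup (GL (Fin 248) (ZMod 3)), IsTh H ∧ ∃ K : Subgroup H, K.index = 143127000 ∧
    ∃ L : Subgroup H, L ≤ K ∧ Is3D4 L :=
  realization_of_injective Rep.rho rho_injective

end CfsgLib.Sporadic.ThPres
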