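import Cfsg.Agent.Lib.Sporadic.ThPres.Lower.TwoData

set_option autoImplicit false
set_option maxRecDepth 20000
set_option Elab.async false

/-! Checks for the subgroup of order 2^15 (generated; owner: helper9). -/

namespace CfsgLib.Sporadic.ThPres.Lower

theorem base2 : baseOK 2 12 gens2 lvls2 es2 = true := by decide +kernel

theorem rels2_at0 : relsOK 2 gens2 rels2 0 1 = true := by decide +kernel

theorem rels2_at1 : relsOK 2 gens2 rels2 1 1 = true := by decide +kernel

theorem rels2_at2 : relsOK 2 gens2 rels2 2 1 = true := by decide +kernel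

theorem rels2_at3 : relsOK 2 gens2 rels2 3 1 = true := by decide +kernel

theorem rels2_at4 : relsOK 2 gens2 rels2 4 1 = true := by decide +kernel

theorem rels2_at5 : relsOK 2 gens2 rels2 5 1 = true := by decide +kernel

theorem rels2_at6 : relsOK 2 gens2 rels2 6 1 = true := by decide +kernel

theorem rels2_at7 : relsOK 2 gens2 rels2 7 1 = true := by decide +kernel

theorem rels2_at8 : relsOK 2 gens2 rels2 8 1 = true := by decide +kernel

theorem rels2_at9 : relsOK 2 gens2 rels2 9 1 = true := by decide +kernel

theorem rels2_at10 : relsOK 2 gens2 rels2 10 1 = true := by decide +kernel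

theorem rels2_at11 : relsOK 2 gens2 rels2 11 1 = true := by decide +kernel

theorem rels2_at12 : relsOK 2 gens2 rels2 12 1 = true := by decide +kernel

theorem rels2_at13 : relsOK 2 gens2 rels2 13 1 = true := by decide +kernel

theorem rels2_at14 : relsOK 2 gens2 rels2 14 1 = true := by decide +kernel

theorem rels2_ok : relsOK 2 gens2 rels2 0 15 = true := by
  have h1 := rels2_at0
  have h2 := relsOK_cat (l := 2) h1 rels2_at1 rfl rfl
  have h3 := relsOK_cat (l := 3) h2 rels2_at2 rfl rfl
  have h4 := relsOK_cat (l := 4) h3 rels2_at3 rfl rfl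
  have h5 := relsOK_cat (l := 5) h4 rels2_at4 rfl rfl
  have h6 := relsOK_cat (l := 6) h5 rels2_at5 rfl rfl
  have h7 := relsOK_cat (l := 7) h6 rels2_at6 rfl rfl
  have h8 := relsOK_cat (l := 8) h7 rels2_at7 rfl rfl
  have h9 := relsOK_cat (l := 9) h8 rels2_at8 rfl rfl
  have h10 := relsOK_cat (l := 10) h9 rels2_at9 rfl rfl
  have h11 := relsOK_cat (l := 11) h10 rels2_at10 rfl rfl
  have h12 := relsOK_cat (l := 12) h11 rels2_at11 rfl rfl
  have h13 := relsOK_cat (l := 13) h12 rels2_at12 rfl rfl
  have h14 := relsOK_cat (l := 14) h13 rels2_at13 rfl rfl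
  have h15 := relsOK_cat (l := 15) h14 rels2_at14 rfl rfl
  exact h15

theorem top2_12_0 : topPart 2 gens2 12 12 0 1 = true := by decide +kernel

theorem exps2_12 : (exps 2 (12 - 12)).length = 1 := by decide +kernel

theorem top2_12 : topPart 2 gens2 12 12 0 (exps 2 (12 - 12)).length = true := by
  rw [exps2_12]
  have h0 := top2_12_0
  exact h0

theorem top2_13_0 : topPart 2 gens2 12 13 0 2 = true := by decide +kernel

theorem exps2_13 : (exps 2 (13 - 12)).length = 2 := by decide +kernel

theorem top2_13 : topPart 2 gens2 12 13 0 (exps 2 (13 - 12)).length = true := by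
  rw [exps2_13]
  have h0 := top2_13_0
  exact h0

theorem top2_14_0 : topPart 2 gens2 12 14 0 4 = true := by decide +kernel

theorem exps2_14 : (exps 2 (14 - 12)).length = 4 := by decide +kernel

theorem top2_14 : topPart 2 gens2 12 14 0 (exps 2 (14 - 12)).length = true := by
  rw [exps2_14]
  have h0 := top2_14_0
  exact h0

theorem dvd2 : 2 ^ 15 ∣ Nat.card Cfsg.Spor.Th := by
  refine pow_dvd (by norm_num) rels2_ok (by norm_num) base2 fun i h1 h2 => ?_
  interval_cases i
  exacts [top2_12, top2_13, top2_14]

end CfsgLib.Sporadic.ThPres.Lower
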