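import Cfsg.Agent.Lib.Sporadic.ThPres.Lower.Cert

set_option autoImplicit false
set_option maxRecDepth 20000
set_option Elab.async false

/-! A subgroup of order 2^15 (generated; owner: helper9). -/

namespace CfsgLib.Sporadic.ThPres.Lower

/-- generators -/
def gens2 : List (List ℕ) := [
  [4],
  [11, 11, 7, 5, 10, 1, 1, 7, 4, 6, 0, 0, 11, 4, 6, 10, 10],
  [10, 8, 6, 11, 8, 11, 4, 10, 8, 6, 11, 8, 11],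
  [10, 8, 6, 11, 8, 11],
  [5, 11, 10, 7, 11, 10, 9, 7, 4, 6, 8, 11, 10, 6, 11, 10, 4],
  [1, 5, 9, 9, 10, 1, 7, 5, 4, 4, 6, 0, 11, 8, 8, 4, 0, 10, 8, 6, 11, 8, 11, 1, 5, 9, 9, 10, 1, 7, 5, 4, 4, 6, 0, 11, 8, 8, 4, 0],
  [1, 5, 9, 9, 10, 1, 7, 5, 4, 4, 6, 0, 11, 8, 8, 4, 0],
  [6],
  [11, 7, 10, 9, 1, 1, 1, 7, 4, 6, 0, 0, 0, 8, 11, 6, 10, 6, 8, 6, 10, 8, 6, 10, 8, 4, 8, 6, 10, 8, 6, 10, 8],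
  [6, 8, 6, 10, 8, 6, 10, 8, 4, 1, 5, 9, 9, 10, 1, 7, 5, 4, 4, 6, 0, 11, 8, 8, 4, 0, 8, 6, 11, 8, 6, 11, 8],
  [6, 8, 6, 10, 8, 6, 10, 8, 4, 8, 6, 10, 8, 6, 10, 8],
  [8, 6, 11, 8, 6, 11, 8],
  [8, 6, 14, 6, 8],
  [8, 6, 10, 13, 14, 6, 11, 8],
  [12, 11, 14, 6, 11, 14, 10, 13]]

/-- relations of step 0 -/
def rel2_0 : List (List ℕ × List Use) := [
  ([], [])]

/-- relations of step 1 -/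
def rel2_1 : List (List ℕ × List Use) := [
  ([1], []),
  ([0], [])]

/-- relations of step 2 -/
def rel2_2 : List (List ℕ × List Use) := [
  ([0, 1], []),
  ([1, 0], []),
  ([0, 0], [])]

/-- relations of step 3 -/
def rel2_3 : List (List ℕ × List Use) := [
  ([0, 0, 1], []),
  ([1, 1, 1], []),
  ([1, 0, 0], []),
  ([0, 0, 0], [])]

/-- relations of step 4 -/
def rel2_4 : List (List ℕ × List Use) := [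
  ([0, 1, 0, 0], []),
  ([1, 0, 0, 0], []),
  ([1, 1, 1, 0], []),
  ([0, 0, 0, 1], []),
  ([0, 0, 0, 0], [])]

/-- relations of step 5 -/
def rel2_5 : List (List ℕ × List Use) := [
  ([0, 0, 1, 0, 0], []),
  ([1, 1, 1, 0, 0], []),
  ([1, 0, 0, 0, 0], []),
  ([1, 1, 0, 1, 0], []),
  ([0, 0, 0, 0, 1], []),
  ([0, 0, 0, 0, 0], [])]

/-- relations of step 6 -/
def rel2_6 : List (List ℕ × List Use) := [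
  ([0, 1, 0, 0, 0, 0], []),
  ([1, 0, 0, 0, 0, 0], []),
  ([1, 1, 1, 0, 0, 0], []),
  ([0, 0, 0, 0, 0, 1], []),
  ([1, 1, 0, 0, 1, 0], []),
  ([0, 0, 0, 1, 0, 0], []),
  ([0, 0, 0, 0, 0, 0], [])]

/-- relations of step 7 -/
def rel2_7 : List (List ℕ × List Use) := [
  ([1, 1, 0, 0, 0, 0, 1], []),
  ([0, 0, 0, 0, 0, 0, 1], []),
  ([1, 1, 0, 1, 0, 1, 1], []),
  ([0, 0, 0, 1, 0, 0, 0], []),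
  ([0, 0, 0, 0, 1, 0, 0], []),
  ([1, 0, 1, 1, 0, 0, 0], []),
  ([0, 1, 0, 0, 0, 0, 0], []),
  ([0, 0, 0, 0, 0, 0, 0], [])]

/-- relations of step 8 -/
def rel2_8 : List (List ℕ × List Use) := [
  ([1, 1, 0, 0, 0, 0, 1, 0], []),
  ([0, 0, 0, 0, 0, 0, 1, 0], []),
  ([1, 1, 0, 1, 0, 1, 1, 0], []),
  ([0, 1, 1, 0, 1, 1, 0, 0], []),
  ([0, 0, 0, 0, 1, 0, 0, 0], []),
  ([0, 0, 0, 0, 1, 1, 0, 0], []),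
  ([0, 1, 0, 0, 0, 0, 0, 0], []),
  ([0, 1, 1, 1, 1, 1, 0, 1], []),
  ([1, 0, 1, 1, 1, 1, 0, 0], [])]

/-- relations of step 9 -/
def rel2_9 : List (List ℕ × List Use) := [
  ([1, 1, 0, 1, 0, 1, 1, 0, 0], []),
  ([0, 0, 0, 1, 0, 1, 1, 0, 0], []),
  ([1, 1, 0, 0, 0, 0, 1, 0, 0], []),
  ([1, 0, 1, 0, 1, 1, 0, 0, 0], []),
  ([0, 0, 0, 0, 1, 0, 0, 0, 0], []),
  ([0, 0, 0, 0, 1, 1, 0, 0, 0], []),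
  ([1, 1, 1, 0, 0, 0, 0, 0, 0], []),
  ([1, 1, 0, 0, 0, 0, 0, 1, 0], []),
  ([1, 1, 0, 0, 0, 0, 0, 0, 1], []),
  ([0, 1, 1, 1, 1, 1, 0, 0, 0], [])]

/-- relations of step 10 -/
def rel2_10 : List (List ℕ × List Use) := [
  ([0, 0, 0, 0, 0, 0, 1, 0, 0, 0], []),
  ([1, 1, 0, 0, 0, 0, 1, 0, 0, 0], []),
  ([0, 0, 0, 1, 0, 1, 1, 0, 0, 0], []),
  ([1, 1, 0, 0, 0, 0, 0, 0, 1, 1], []),
  ([1, 1, 0, 0, 1, 0, 0, 0, 0, 0], []),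
  ([0, 1, 1, 0, 0, 0, 0, 0, 1, 1], []),
  ([1, 0, 0, 0, 0, 0, 0, 0, 0, 0], []),
  ([1, 0, 1, 0, 1, 1, 0, 0, 0, 1], []),
  ([0, 0, 0, 1, 0, 0, 0, 1, 1, 1], []),
  ([0, 0, 0, 0, 0, 0, 0, 1, 1, 1], []),
  ([1, 0, 1, 0, 1, 1, 0, 1, 0, 1], [])]

/-- relations of step 11 -/
def rel2_11 : List (List ℕ × List Use) := [
  ([1, 0, 1, 0, 1, 1, 0, 1, 1, 1, 1], []),
  ([0, 1, 1, 0, 1, 1, 0, 1, 1, 1, 1], []),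
  ([0, 0, 0, 0, 0, 0, 0, 1, 0, 0, 1], []),
  ([0, 0, 0, 1, 0, 0, 0, 0, 0, 0, 0], []),
  ([0, 0, 0, 0, 1, 0, 0, 0, 0, 0, 0], []),
  ([1, 0, 1, 1, 1, 1, 0, 0, 1, 1, 0], []),
  ([1, 0, 1, 1, 1, 1, 0, 0, 1, 0, 1], []),
  ([0, 0, 0, 0, 0, 0, 0, 1, 0, 0, 0], []),
  ([0, 1, 0, 1, 0, 1, 1, 1, 0, 0, 0], []),
  ([1, 1, 1, 1, 0, 0, 1, 1, 0, 0, 0], []),
  ([1, 1, 0, 1, 0, 1, 1, 1, 0, 0, 0], []),
  ([0, 0, 0, 0, 0, 0, 0, 0, 0, 0, 0], [])]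

/-- relations of step 12 -/
def rel2_12 : List (List ℕ × List Use) := [
  ([0, 0, 1, 0, 1, 0, 0, 1, 1, 0, 0, 0], [⟨[4, 3], 7, false, []⟩, ⟨[], 7, true, [6, 4, 6, 2, 6, 4]⟩]),
  ([1, 1, 1, 0, 1, 0, 0, 1, 1, 0, 0, 0], [⟨[4, 3], 7, false, []⟩, ⟨[], 7, true, [4, 6, 2, 6, 4, 6]⟩]),
  ([0, 0, 1, 1, 0, 1, 0, 1, 1, 0, 0, 0], [⟨[4, 3], 7, false, []⟩, ⟨[], 7, true, [5, 6, 4, 6, 2, 6, 4, 5]⟩]),
  ([0, 0, 0, 1, 0, 0, 0, 0, 0, 0, 0, 0], [⟨[4, 3], 7, false, []⟩, ⟨[], 7, true, [0, 1, 5]⟩]),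
  ([0, 0, 0, 0, 1, 0, 0, 0, 0, 0, 0, 0], [⟨[4, 3], 7, false, []⟩, ⟨[], 7, true, []⟩]),
  ([0, 1, 1, 1, 1, 0, 0, 0, 0, 0, 0, 0], [⟨[4, 3], 7, false, []⟩, ⟨[], 7, true, [0, 6, 5, 6]⟩]),
  ([0, 1, 1, 0, 0, 0, 1, 1, 1, 0, 0, 0], [⟨[4, 3], 7, false, []⟩, ⟨[], 7, true, [1, 4, 6, 4, 6, 4]⟩]),
  ([0, 0, 0, 0, 0, 0, 0, 1, 0, 0, 0, 0], [⟨[4, 3], 7, false, []⟩, ⟨[], 7, true, [0, 1, 2]⟩]),
  ([1, 0, 1, 1, 1, 1, 0, 0, 1, 0, 0, 0], [⟨[4, 3], 7, false, []⟩, ⟨[], 7, true, [0, 4, 5, 6, 4, 6, 2, 4, 5, 6]⟩]),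
  ([1, 0, 1, 1, 0, 1, 0, 0, 0, 1, 0, 0], [⟨[4, 3], 7, false, []⟩, ⟨[], 7, true, [3, 5, 6, 2, 6, 5, 10, 5]⟩]),
  ([0, 1, 0, 1, 0, 0, 1, 1, 0, 1, 1, 0], [⟨[4, 3], 7, false, []⟩, ⟨[], 7, true, [10, 5, 6, 5, 3, 5, 6, 2, 5, 6]⟩]),
  ([0, 0, 0, 1, 0, 0, 0, 1, 0, 0, 0, 1], [⟨[4, 3], 7, false, []⟩, ⟨[], 7, true, [0, 1, 2, 10, 5, 3]⟩]),
  ([0, 0, 0, 0, 1, 0, 0, 0, 0, 0, 0, 0], [⟨[4, 3], 7, false, []⟩, ⟨[], 7, true, []⟩])]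

/-- relations of step 13 -/
def rel2_13 : List (List ℕ × List Use) := [
  ([1, 1, 0, 1, 1, 1, 0, 1, 0, 0, 1, 0, 0], [⟨[4, 3, 5, 5, 5, 5, 5, 5], 7, false, []⟩, ⟨[], 7, true, [6, 4, 6, 2, 6, 4]⟩]),
  ([0, 0, 0, 1, 1, 1, 0, 1, 0, 0, 1, 0, 0], [⟨[4, 3, 5, 5, 5, 5, 5, 5], 7, false, []⟩, ⟨[], 7, true, [4, 6, 2, 6, 4, 6]⟩]),
  ([0, 0, 0, 0, 0, 1, 0, 0, 0, 1, 1, 0, 0], [⟨[4, 3, 5, 5, 5, 5, 5, 5], 7, false, []⟩, ⟨[], 7, true, [3, 4, 6, 5, 6, 4, 10, 5, 6, 5]⟩]),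
  ([0, 0, 0, 0, 0, 0, 0, 1, 0, 0, 0, 0, 0], [⟨[4, 3, 5, 5, 5, 5, 5, 5], 7, false, []⟩, ⟨[], 7, true, [0, 1, 10, 5, 3]⟩]),
  ([0, 0, 0, 0, 1, 0, 0, 0, 0, 0, 0, 0, 0], [⟨[4, 3, 5, 5, 5, 5, 5, 5], 7, false, []⟩, ⟨[], 7, true, []⟩]),
  ([0, 1, 1, 0, 0, 1, 0, 0, 0, 1, 0, 0, 0], [⟨[4, 3, 5, 5, 5, 5, 5, 5], 7, false, []⟩, ⟨[], 7, true, [0, 5, 6, 10, 5, 3, 6, 5]⟩]),
  ([0, 1, 1, 1, 0, 0, 0, 1, 1, 1, 1, 0, 0], [⟨[4, 3, 5, 5, 5, 5, 5, 5], 7, false, []⟩, ⟨[], 7, true, [1, 4, 5, 6, 4, 6, 4, 5]⟩]),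
  ([0, 0, 0, 1, 0, 0, 0, 0, 0, 0, 0, 0, 0], [⟨[4, 3, 5, 5, 5, 5, 5, 5], 7, false, []⟩, ⟨[], 7, true, [0, 1, 2, 5]⟩]),
  ([0, 0, 1, 0, 1, 1, 1, 0, 0, 0, 0, 0, 0], [⟨[4, 3, 5, 5, 5, 5, 5, 5], 7, false, []⟩, ⟨[], 7, true, [0, 10, 5, 6, 10, 5, 6, 10]⟩]),
  ([1, 0, 1, 1, 0, 0, 0, 1, 0, 0, 0, 0, 0], [⟨[4, 3, 5, 5, 5, 5, 5, 5], 7, false, []⟩, ⟨[], 7, true, [6, 1, 2, 5, 6, 10, 5, 3]⟩]),
  ([0, 0, 1, 1, 0, 1, 0, 0, 1, 1, 0, 0, 0], [⟨[4, 3, 5, 5, 5, 5, 5, 5], 7, false, []⟩, ⟨[], 7, true, [2, 4, 5, 6, 1, 4, 6, 4]⟩]),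
  ([0, 0, 0, 0, 0, 0, 0, 1, 0, 0, 0, 1, 0], [⟨[4, 3, 5, 5, 5, 5, 5, 5], 7, false, []⟩, ⟨[], 7, true, [0, 1, 2, 10, 5, 3]⟩]),
  ([0, 0, 0, 0, 0, 0, 0, 0, 0, 0, 0, 0, 1], [⟨[4, 3, 5, 5, 5, 5, 5, 5], 7, false, []⟩, ⟨[11, 11, 11, 11], 15, false, [2, 5, 3, 6, 1, 5, 6, 4, 6, 10]⟩, ⟨[11, 11], 15, true, [5, 3, 6, 5, 10, 5, 6, 4, 6]⟩, ⟨[], 7, true, []⟩]),
  ([0, 0, 0, 0, 0, 0, 0, 0, 0, 0, 0, 0, 1], [⟨[4, 5, 5, 5, 5, 5, 5, 3], 7, false, [10]⟩, ⟨[], 15, true, [5, 3, 6, 5, 10, 5, 6, 4, 6]⟩, ⟨[], 7, true, []⟩])]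

/-- relations of step 14 -/
def rel2_14 : List (List ℕ × List Use) := [
  ([0, 1, 0, 1, 1, 0, 0, 0, 1, 1, 0, 0, 0, 0], [⟨[6, 6, 5, 5, 5, 5, 5, 5, 5, 5, 5, 5, 5, 5], 7, false, [10]⟩, ⟨[14, 13, 12], 54, false, [0, 2, 4, 6, 4, 6, 5, 3, 6]⟩, ⟨[], 54, false, [2, 5, 6, 4, 6, 5, 6, 5, 10]⟩, ⟨[], 7, true, [5, 3, 5, 6, 1, 4, 6, 5, 6]⟩]),
  ([1, 0, 0, 1, 1, 0, 0, 0, 1, 1, 0, 0, 0, 0], [⟨[6, 6, 5, 5, 5, 5, 5, 5, 5, 5, 5, 5, 5, 5], 7, false, [10]⟩, ⟨[14, 13, 12], 54, false, [0, 2, 4, 6, 4, 6, 5, 3, 6]⟩, ⟨[], 54, false, [2, 5, 6, 4, 5, 6, 5, 6, 10]⟩, ⟨[], 7, true, [5, 3, 5, 6, 4, 6, 5, 6]⟩]),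
  ([1, 1, 1, 1, 1, 0, 0, 0, 1, 1, 0, 0, 0, 0], [⟨[6, 6, 5, 5, 5, 5, 5, 5, 5, 5, 5, 5, 5, 5], 7, false, [10]⟩, ⟨[14, 13, 12], 54, false, [0, 2, 4, 6, 4, 6, 5, 3, 6]⟩, ⟨[], 54, false, [1, 6, 2, 6, 10, 5, 6, 4, 6, 2]⟩, ⟨[], 7, true, [6, 1, 2, 4, 5, 6, 10, 5, 10]⟩]),
  ([1, 1, 0, 0, 1, 1, 0, 0, 0, 0, 0, 0, 0, 0], [⟨[6, 6, 5, 5, 5, 5, 5, 5, 5, 5, 5, 5, 5, 5], 7, false, [10]⟩, ⟨[14, 13, 12], 54, false, [0, 2, 4, 6, 4, 6, 5, 3, 6]⟩, ⟨[12, 11, 11, 13, 10, 12, 11, 11, 11, 11], 54, false, [6, 1, 2, 6, 5, 6, 2, 4, 10]⟩, ⟨[], 7, true, [1, 2, 3, 6, 2, 4, 5, 6, 2]⟩]),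
  ([1, 1, 0, 0, 1, 0, 0, 0, 0, 0, 0, 0, 0, 0], [⟨[6, 6, 5, 5, 5, 5, 5, 5, 5, 5, 5, 5, 5, 5], 7, false, [10]⟩, ⟨[14, 13, 12], 54, false, [0, 2, 4, 6, 4, 6, 5, 3, 6]⟩, ⟨[], 54, false, [5, 10, 5, 6, 4, 5, 6, 5]⟩, ⟨[], 7, true, [2, 3, 4, 6, 1, 4, 6, 5]⟩]),
  ([1, 1, 0, 1, 1, 0, 0, 0, 0, 0, 0, 0, 0, 0], [⟨[6, 6, 5, 5, 5, 5, 5, 5, 5, 5, 5, 5, 5, 5], 7, false, [10]⟩, ⟨[14, 13, 12], 54, false, [0, 2, 4, 6, 4, 6, 5, 3, 6]⟩, ⟨[12, 11, 11, 13, 10, 12, 11, 11, 11, 11], 54, false, [2, 6, 4, 6, 2, 10, 5, 6, 2, 5]⟩, ⟨[], 7, true, [4, 5, 3, 6, 1, 4, 5]⟩]),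
  ([1, 0, 1, 1, 0, 0, 1, 0, 1, 1, 0, 0, 0, 0], [⟨[6, 6, 5, 5, 5, 5, 5, 5, 5, 5, 5, 5, 5, 5], 7, false, [10]⟩, ⟨[14, 13, 12], 54, false, [0, 2, 4, 6, 4, 6, 5, 3, 6]⟩, ⟨[], 54, false, [5, 6, 4, 5, 6, 5, 10]⟩, ⟨[], 7, true, [0, 2, 5, 3, 6, 4, 5, 6]⟩]),
  ([1, 0, 0, 0, 1, 0, 1, 1, 0, 0, 0, 0, 0, 0], [⟨[6, 6, 5, 5, 5, 5, 5, 5, 5, 5, 5, 5, 5, 5], 7, false, [10]⟩, ⟨[14, 13, 12], 54, false, [0, 2, 4, 6, 4, 6, 5, 3, 6]⟩, ⟨[12, 11, 11, 13, 12, 11, 11, 11, 11], 54, false, [1, 2, 5, 6, 2, 4, 10, 5, 6, 2, 5]⟩, ⟨[], 7, true, [2, 4, 5, 3, 6, 4, 5]⟩]),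
  ([0, 1, 0, 0, 0, 0, 1, 0, 1, 0, 0, 0, 0, 0], [⟨[6, 6, 5, 5, 5, 5, 5, 5, 5, 5, 5, 5, 5, 5], 7, false, [10]⟩, ⟨[14, 13, 12], 54, false, [0, 2, 4, 6, 4, 6, 5, 3, 6]⟩, ⟨[12, 11, 11, 13, 12, 11, 11, 11, 11], 54, false, [2, 5, 6, 1, 4, 5, 6, 5, 10]⟩, ⟨[], 7, true, [1, 5, 3, 5, 6, 4, 6, 5, 6]⟩]),
  ([0, 0, 1, 0, 1, 0, 1, 0, 0, 1, 0, 0, 0, 0], [⟨[6, 6, 5, 5, 5, 5, 5, 5, 5, 5, 5, 5, 5, 5], 7, false, [10]⟩, ⟨[14, 13, 12], 54, false, [0, 2, 4, 6, 4, 6, 5, 3, 6]⟩, ⟨[12, 10, 12], 54, false, [0, 3, 5, 6, 4, 5, 6, 5, 3]⟩, ⟨[], 7, true, [0, 2, 5, 3, 6, 4, 5]⟩]),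
  ([1, 1, 1, 0, 1, 1, 1, 0, 1, 1, 1, 0, 0, 0], [⟨[6, 6, 5, 5, 5, 5, 5, 5, 5, 5, 5, 5, 5, 5], 7, false, [10]⟩, ⟨[14, 13, 12], 54, false, [0, 2, 4, 6, 4, 6, 5, 3, 6]⟩, ⟨[12, 11, 11, 13, 12, 11, 11, 11, 11], 54, false, [1, 2, 4, 5, 6, 4, 6, 10]⟩, ⟨[], 7, true, [4, 5, 3, 6, 2, 4, 5, 6, 2]⟩]),
  ([1, 0, 1, 1, 1, 0, 1, 0, 1, 0, 1, 1, 0, 0], [⟨[6, 6, 5, 5, 5, 5, 5, 5, 5, 5, 5, 5, 5, 5], 7, false, [10]⟩, ⟨[14, 13, 12], 54, false, [0, 2, 4, 6, 4, 6, 5, 3, 6]⟩, ⟨[12, 13, 10, 12], 54, false, [1, 3, 6, 4, 5, 6, 5, 3]⟩, ⟨[], 7, true, [3, 6, 1, 5, 6, 2, 6, 4, 6]⟩]),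
  ([0, 1, 1, 0, 0, 0, 0, 1, 1, 0, 0, 0, 1, 0], [⟨[6, 6, 5, 5, 5, 5, 5, 5, 5, 5, 5, 5, 5, 5], 7, false, [10]⟩, ⟨[14, 13, 12], 54, false, [0, 2, 4, 6, 4, 6, 5, 3, 6]⟩, ⟨[11, 11], 15, true, [2, 6, 2, 6, 5, 6, 5, 10]⟩, ⟨[12, 13, 11, 11, 13, 12], 54, false, [6, 1, 2, 6, 5, 6, 4, 10, 5, 3]⟩, ⟨[12, 13, 10, 12, 11, 11, 11, 11], 54, false, [3, 6, 5, 3, 6, 2, 5, 6, 4]⟩, ⟨[], 7, true, [1, 6, 2, 4, 5, 6, 10, 5, 3]⟩]),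
  ([0, 1, 1, 0, 0, 0, 1, 0, 1, 1, 1, 0, 1, 1], [⟨[6, 6, 5, 5, 5, 5, 5, 5, 5, 5, 5, 5, 5, 5], 7, false, [10]⟩, ⟨[14, 13, 12], 54, false, [0, 2, 4, 6, 4, 6, 5, 3, 6]⟩, ⟨[], 15, false, [2, 5, 6, 2, 4, 5, 6, 2, 6, 4]⟩, ⟨[12, 13, 10, 12, 11, 11], 47, false, [0, 2, 4, 6, 2, 5, 6, 4, 6, 2, 5, 6]⟩, ⟨[42, 42, 42, 42, 42, 42, 42, 42, 42, 42], 47, true, [6, 1, 4, 10, 5, 6, 2, 6, 4, 10]⟩, ⟨[11, 11], 15, false, [2, 6, 2, 5, 3, 6, 2, 5]⟩, ⟨[], 7, true, [5, 3, 6, 4, 6, 2, 6, 5, 10]⟩]),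
  ([1, 1, 0, 1, 1, 0, 0, 0, 1, 1, 0, 0, 0, 0], [⟨[6, 6, 5, 5, 5, 5, 5, 5, 5, 5, 5, 5, 5, 5], 7, false, [10]⟩, ⟨[14, 13, 12], 54, false, [0, 2, 6, 4, 5, 3, 6, 2, 6, 2]⟩, ⟨[], 54, false, [2, 5, 6, 4, 5, 6, 5, 10]⟩, ⟨[], 7, true, [0, 5, 3, 5, 6, 4, 6, 5, 6]⟩])]

/-- all relations -/
def rels2 : List (List (List ℕ × List Use)) := [rel2_0, rel2_1, rel2_2, rel2_3, rel2_4, rel2_5, rel2_6, rel2_7, rel2_8, rel2_9, rel2_10, rel2_11, rel2_12, rel2_13, rel2_14]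

/-- exponents of the generators of the levels -/
def es2 : List (List ℕ) := [[0, 0, 0, 0, 0, 0, 0, 0, 0, 0, 1, 0], [0, 0, 0, 0, 0, 0, 0, 0, 0, 0, 0, 1], [0, 0, 0, 0, 0, 0, 0, 1, 0, 0, 0, 0], [0, 0, 0, 1, 0, 0, 0, 0, 0, 0, 0, 0]]

/-- levels -/
def lvls2 : List Lvl := [⟨1, [[6, 8, 6, 10, 8, 6, 10, 8, 4, 8, 6, 10, 8, 6, 10, 8]], 0x508059593ec9906956232b9072e5048692c14e8c45c5e4dc0656aad4a18ca04205613a01d1caa941158ff4cc1a64951b39088993d646d095f27c96542855c125d15fe376822884b206b061461be4becd2bd1a6431e511d4541c6022fa56dc56022179a0ea732e55cb05b91b9c50b111d285e3fa770d119af03f1baf1a1c0f1510d7076c4a2ceec575cfcbee09b9468520f98ca350cb22a1e374e842f5d0b91458573076616832629cdda121aa8426d6b51584dab82f232b5847ab1cb730caf70e896b293476479b20a2909c140654c025b022db10cade58b62e875964082996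a72230456523e8644703a6c8626455aefa680dc7e29040a4619837a1b046721962d4754948469b51d1f2dcac299e4800a726b1a2062c2972c96732bd312c2d97b267b2e1bdaf8976ba2f61495bbb077a6ea28aa126609bae988d292a46a691e936de6f26f22784a0a3d48caaf38294f772652eee28aa96262e196d59882e389188a5f0686e6b92d0f2e9babc18b4889cb21879d2a98f2c72ad8252c30a549f5bd528c093cc56da52b67209e665892d5a22aa4657d2d71d2088aab660b48f6a3531b47b3182c58a2a61f985e76f227aea0d8ce40484be87b19a2dc4ac22bacd2b9214949939afcbfc51b6539e28c9031354a6ec3eba72d7ae4c8da60a0c4b15eb945840ab03a7d5b1ade497584e7245a729296685b8e95e6e13f6d6cc5344c8d53813d323fa1c304bc14a31ca11464d2a4c127a0a7c66d0a8ee390b439058387b437381315c52e695a40f1b39e4f67be4a37cde9d5606e4f70ec5f67f299a9727fc5d2756b44c1860509b296c8e1f336c170b2787ba9e1428a68c590125c1629f54f24c26a205455b2ce2370dd00a530ac0309c54679c3180e10942a091f409801,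 [(0, 0), (0, 1), (1, 1), (2, 1), (3, 1), (0, 2), (1, 2), (2, 2), (3, 2), (0, 3), (2, 3), (3, 3), (3, 4), (0, 5), (0, 6), (1, 6), (2, 6), (3, 6), (0, 7), (2, 7), (3, 7), (3, 8), (0, 9), (0, 10), (1, 10), (2, 10), (3, 10), (0, 11), (3, 11), (0, 12), (0, 13), (0, 14), (1, 14), (2, 14), (3, 14), (0, 16), (2, 16), (3, 16), (3, 17), (0, 18), (0, 19), (1, 19), (2, 19), (3, 19), (0, 20), (3, 20), (0, 21), (0, 22), (0, 23), (1, 23), (2, 23), (3, 23), (0, 24), (2, 24), (3, 24), (2, 25), (3, 25), (3, 26), (0, 27), (0, 28), (2, 28), (3, 28), (0, 29), (0, 30), (1, 30), (2, 30), (3, 30), (0, 31), (1, 31), (2, 31), (0, 32), (1, 32), (2, 32), (0, 33), (2, 33), (3, 33), (3, 34), (3, 36), (3, 37), (0, 38), (1, 40), (3, 41), (3, 42), (3, 43), (0, 44), (0, 45), (2, 45), (3, 45), (0, 46), (0,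 47), (1, 47), (2, 47), (3, 47), (0, 48), (1, 48), (2, 48), (1, 49), (0, 50), (2, 50), (3, 50), (3, 53), (3, 54), (0, 55), (3, 56), (0, 57), (0, 58), (0, 59), (1, 59), (2, 59), (3, 59), (3, 60), (3, 61), (0, 62), (0, 63), (1, 63), (2, 63), (3, 63), (0, 64), (1, 64), (2, 64), (3, 64), (0, 65), (2, 65), (3, 65), (3, 66), (0, 67), (1, 68), (0, 69), (2, 69), (1, 71), (0, 72), (2, 72), (0, 74), (1, 74), (2, 74), (3, 74), (0, 75), (3, 75), (0, 76), (0, 78), (0, 79), (0, 81), (0, 82), (0, 83), (0, 84), (0, 85), (1, 85), (2, 85), (3, 85), (3, 86), (3, 87), (0, 88), (0, 89), (2, 89), (1, 90), (0, 91), (2, 91), (3, 91), (3, 92), (0, 93), (1, 94), (0, 95), (2, 95), (0, 97), (0, 98), (1, 98), (2, 98), (3, 98), (0, 99), (0, 100), (0, 101), (0, 102), (0, 103), (1, 103), (2, 103), (3,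 103), (0, 104), (0, 105), (1, 105), (2, 105), (3, 105), (0, 106), (1, 106), (2, 106), (1, 107), (0, 108), (2, 108), (3, 108), (3, 109), (0, 110), (0, 111), (0, 112), (0, 113), (1, 113), (2, 113), (3, 113), (3, 116), (0, 117), (0, 119), (2, 119), (3, 120), (0, 121), (0, 122), (1, 122), (2, 122), (0, 123), (0, 126), (2, 126), (3, 126), (0, 127), (0, 128), (1, 128), (2, 128), (3, 128), (0, 129), (0, 130), (0, 131), (1, 131), (2, 131), (3, 131), (0, 132), (0, 133), (2, 133), (3, 133), (3, 135), (0, 136), (0, 137), (2, 137), (3, 137), (3, 139), (0, 140), (1, 140), (0, 142), (3, 142), (0, 143), (1, 143), (2, 143), (3, 143), (0, 144), (1, 144), (2, 144), (0, 145), (1, 145), (2, 145), (3, 145), (0, 146), (1, 146), (2, 146), (3, 146), (0, 147), (0, 150), (0, 151), (0, 152), (1,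 152), (2, 152), (3, 152), (1, 153), (0, 155), (0, 156), (0, 157), (0, 159), (0, 160), (0, 161), (0, 162), (1, 162), (2, 162), (3, 162), (0, 163), (0, 164), (1, 164), (2, 164), (3, 164), (0, 165), (2, 165), (0, 168), (0, 169), (1, 169), (2, 169), (3, 169), (0, 170), (2, 170), (3, 170), (0, 171), (1, 171), (2, 171), (3, 171), (0, 172), (1, 172), (2, 172), (3, 172), (0, 173), (2, 173), (0, 174), (0, 177), (2, 177), (0, 179), (0, 183), (0, 185), (0, 186), (1, 186), (0, 187), (3, 187), (0, 188), (0, 189), (0, 190), (1, 191), (0, 192), (1, 192), (2, 192), (0, 194), (0, 210), (2, 210), (0, 211), (2, 211), (0, 214), (0, 215), (2, 215), (0, 220), (0, 221), (2, 221), (0, 224), (0, 225), (0, 226), (1, 226), (0, 229), (0, 230), (1, 231), (0, 232), (3, 233), (0, 234), (0, 235), (1,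 235), (2, 235), (3, 235), (0, 236), (2, 236), (3, 237), (0, 238), (1, 239), (0, 240), (1, 242), (3, 242), (0, 243), (2, 243), (3, 244), (0, 245), (1, 246), (0, 247), (2, 247), (3, 248), (0, 249), (0, 250), (1, 250), (2, 250), (1, 251), (1, 253), (0, 254), (2, 254), (0, 259), (2, 259), (0, 260), (2, 260), (0, 263), (2, 263), (3, 266), (0, 267), (3, 271), (0, 272), (3, 273), (0, 275), (2, 275), (3, 275), (3, 278), (0, 279), (0, 282), (0, 284), (2, 284), (3, 285), (0, 286), (1, 287), (0, 288), (2, 288), (3, 289), (0, 290), (1, 291), (0, 293), (1, 293), (2, 293), (0, 296), (1, 296), (0, 297), (1, 297), (0, 298), (2, 298), (0, 299), (2, 299), (0, 301), (2, 301), (0, 306), (0, 308), (2, 308), (0, 310), (1, 310), (2, 310), (0, 315), (2, 315), (3, 315), (0, 318), (2, 318), (3,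 318), (3, 319), (0, 321), (2, 321), (3, 321), (2, 325), (0, 326), (2, 326), (0, 327), (0, 328), (2, 328), (0, 329), (0, 330), (2, 330), (0, 332), (2, 332), (0, 335), (1, 335), (2, 335), (0, 336), (0, 339), (0, 340), (1, 340), (2, 340), (3, 340), (0, 341), (0, 343), (0, 344), (0, 347), (0, 348), (2, 348), (0, 349), (0, 352), (2, 352), (0, 355), (0, 356), (0, 357), (2, 357), (0, 358), (0, 366), (2, 366), (0, 367), (0, 368), (2, 368), (3, 368), (0, 369), (0, 370), (2, 370), (0, 373), (0, 374), (0, 375), (2, 375), (3, 375), (0, 376), (0, 377), (0, 380), (0, 381), (0, 382), (0, 385), (3, 386), (0, 399), (0, 400), (0, 401), (0, 411), (0, 418), (0, 421), (0, 424), (1, 424), (2, 424), (3, 424), (0, 425), (0, 426), (2, 426), (3, 426), (0, 429), (2, 429), (0, 435), (2, 435), (0,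 436), (2, 436), (0, 437), (2, 437), (0, 441), (2, 441), (0, 451), (2, 451), (0, 452), (2, 452), (0, 455), (2, 455), (0, 458), (2, 458), (0, 463), (2, 463), (0, 464), (2, 464), (0, 466), (2, 466), (0, 467), (2, 467), (0, 480), (2, 480)]⟩, ⟨3, [[8, 6, 11, 8, 6, 11, 8], [6], [10, 8, 6, 11, 8, 11]], 0xa8270982b0900409403, [(0, 0), (1, 0), (2, 0), (1, 1), (2, 1), (2, 2), (2, 4)]⟩]

end CfsgLib.Sporadic.ThPres.Lower
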