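import Cfsg.Agent.Lib.Sporadic.ThPres.Pairs
import Cfsg.Agent.Lib.Sporadic.ThPres.Lower.Rows0
import Cfsg.Agent.Lib.Sporadic.ThPres.Lower.Rows1
import Cfsg.Agent.Lib.Sporadic.ThPres.Lower.Rows2
import Cfsg.Agent.Lib.Sporadic.ThPres.Lower.Rows3
import Cfsg.Agent.Lib.Sporadic.ThPres.Lower.Rows4
import Cfsg.Agent.Lib.Sporadic.ThPres.Lower.Rows5
import Cfsg.Agent.Lib.Sporadic.ThPres.Lower.Rows6
import Cfsg.Agent.Lib.Sporadic.ThPres.Lower.Rows7
import Cfsg.Agent.Lib.Sporadic.ThPres.Lower.RowsE

/-!
# Vectors under words, and a test for lying outside the 3D4(2):3 subgroup (owner: helper9)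

A projection commuting with that subgroup (letter 16) fixes a vector; an element of the subgroup keeps its image fixed.
-/

set_option autoImplicit false
set_option maxRecDepth 20000
set_option Elab.async false

namespace CfsgLib.Sporadic.ThPres.Lower

open Cfsg Matrix
open CfsgLib.Sporadic.ThPres.Rep

/-- the rows of the letters and of the projection -/
noncomputable def matsE (x : ℕ) : List ℕ := cond (Nat.beq x 16) rowsE (mats x)

/-- the packed rows of the letters and of the projection -/
noncomputable def prow (x : ℕ) : List ℕ :=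
  cond (Nat.beq x 16) prowsE (cond (Nat.beq x 0) prows0 (cond (Nat.beq x 1) prows1 (cond (Nat.beq x 2) prows2 (cond (Nat.beq x 3) prows3 (cond (Nat.beq x 4) prows4 (cond (Nat.beq x 5) prows5 (cond (Nat.beq x 6) prows6 (cond (Nat.beq x 7) prows7 (cond (Nat.beq x 8) prows8 (cond (Nat.beq x 9) prows9 (cond (Nat.beq x 10) prows10 (cond (Nat.beq x 11) prows11 (cond (Nat.beq x 12) prows12 (cond (Nat.beq x 13) prows13 (cond (Nat.beq x 14) prows14 (prows15))))))))))))))))

/-- a letter or the projection as a matrix -/
noncomputable def matE (x : ℕ) : Mat 248 := toMat 248 (matsE x)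

theorem rowsOK_matsE {x : ℕ} (hx : x < 17) : rowsOK 248 (matsE x) = true := by
  rcases Nat.lt_or_ge x 16 with h | h
  · have : Nat.beq x 16 = false := by
      cases hb : Nat.beq x 16 with
      | false => rfl
      | true => exact absurd (Nat.eq_of_beq_eq_true hb) (by omega)
    rw [matsE, this]
    exact rows_of_lt h
  · obtain rfl : x = 16 := by omega
    exact rowsE_ok

theorem matE_eq {x : ℕ} (hx : x < 16) : matE x = mat x := by
  rw [matE, matsE, mat, show Nat.beq x 16 = false by
    cases hb : Nat.beq x 16 with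
    | false => rfl
    | true => exact absurd (Nat.eq_of_beq_eq_true hb) (by omega)]
  rfl

theorem prow_eq {x : ℕ} (hx : x < 17) : prow x = enc (matE x) := by
  have h : dmul (maskN 248) (matsE x) idEnc = enc (matE x) := by
    rw [← enc_one, dmul_enc le_rfl (rowsOK_matsE hx), mul_one]
    rfl
  rw [← h]
  interval_cases x
  exacts [prows0_eq.symm, prows1_eq.symm, prows2_eq.symm, prows3_eq.symm, prows4_eq.symm, prows5_eq.symm,
    prows6_eq.symm, prows7_eq.symm, prows8_eq.symm, prows9_eq.symm, prows10_eq.symm, prows11_eq.symm, prows12_eq.symm,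
    prows13_eq.symm, prows14_eq.symm, prows15_eq.symm, prowsE_eq.symm]

/-- a row in twenty-bit slots times packed rows -/
noncomputable def dotP (R : List ℕ) : ℕ → ℕ :=
  List.rec (motive := fun _ => ℕ → ℕ) (fun _ => 0)
    (fun r _ ih v => strict (Nat.land v 1023) fun a => cond (Nat.beq a 0) (ih (Nat.shiftRight v 20))
      (Nat.add (Nat.mul a r) (ih (Nat.shiftRight v 20)))) R

theorem dotP_ofFn : ∀ (m n : ℕ) (f : Fin m → ℕ) (g : Fin m → Fin n → ℕ), (∀ k, f k < 1024) →
    dotP (List.ofFn fun k => packF n (g k)) (packF m f) = packF n fun j => ∑ k : Fin m, f k * g k j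
  | 0, n, f, g, _ => by simp [dotP, packF_zero]
  | m + 1, n, f, g, hf => by
    have hc : ∀ a X Y : ℕ, cond (Nat.beq a 0) Y (a * X + Y) = a * X + Y := fun a X Y => by
      cases h : Nat.beq a 0 with
      | true => rw [Nat.eq_of_beq_eq_true h]; simp
      | false => rfl
    have h0 := hf 0
    have h1 : Nat.land (packF (m + 1) f) 1023 = f 0 := by
      show packF (m + 1) f &&& (2 ^ 10 - 1) = f 0
      rw [Nat.and_two_pow_sub_one_eq_mod, packF]
      omega
    have h2 : Nat.shiftRight (packF (m + 1) f) 20 = packF m fun i => f i.succ := by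
      show packF (m + 1) f >>> 20 = _
      rw [Nat.shiftRight_eq_div_pow, packF]
      omega
    rw [List.ofFn_succ]
    show strict (Nat.land (packF (m + 1) f) 1023) (fun a => cond (Nat.beq a 0)
      (dotP (List.ofFn fun k => packF n (g k.succ)) (Nat.shiftRight (packF (m + 1) f) 20))
      (a * packF n (g 0) + dotP (List.ofFn fun k => packF n (g k.succ)) (Nat.shiftRight (packF (m + 1) f) 20))) = _
    rw [strict_eq, hc, h1, h2, dotP_ofFn m n _ _ fun i => hf i.succ, packF_smul, packF_add]
    congr 1
    funext j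
    rw [Fin.sum_univ_succ]

/-- a packed vector -/
def encV (f : Fin 248 → ZMod 3) : ℕ := packF 248 fun i => (f i).val

theorem encV_injective : Function.Injective encV := fun f g h => funext fun i => ZMod.val_injective 3
  (congrFun (packF_inj 248 _ _ (fun k => (ZMod.val_lt (f k)).trans_le (by norm_num))
    (fun k => (ZMod.val_lt (g k)).trans_le (by norm_num)) h) i)

/-- a packed vector times a letter -/
noncomputable def vmulP (x v : ℕ) : ℕ := Rep.red (maskN 248) (dotP (prow x) v)

theorem red_dotP_enc {n : ℕ} (hn : n ≤ 248) (A : Mat n) (f : Fin n → ZMod 3) :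
    Rep.red (maskN n) (dotP (enc A) (packF n fun i => (f i).val)) = packF n fun i => ((f ᵥ* A) i).val := by
  rw [enc, dotP_ofFn n n _ _ fun k => (ZMod.val_lt (f k)).trans_le (by norm_num), Rep.red_packF _ fun j => ?_]
  · congr 1
    funext j
    rw [← ZMod.val_natCast, Nat.cast_sum]
    simp [Matrix.vecMul, dotProduct]
  · refine le_trans (Finset.sum_le_sum (g := fun _ => 2 * 2) fun k _ => ?_) ?_
    · exact Nat.mul_le_mul (Nat.le_of_lt_succ (ZMod.val_lt _)) (Nat.le_of_lt_succ (ZMod.val_lt _))
    · simp only [Finset.sum_const, Finset.card_univ, Fintype.card_fin, smul_eq_mul]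
      omega

attribute [local irreducible] packF maskN dotP in
theorem vmulP_eq {x : ℕ} (hx : x < 17) (f : Fin 248 → ZMod 3) : vmulP x (encV f) = encV (f ᵥ* matE x) := by
  unfold vmulP encV
  rw [prow_eq hx]
  exact red_dotP_enc le_rfl _ f

/-- a packed vector times a word -/
noncomputable def vwordP (w : List ℕ) : ℕ → ℕ :=
  List.rec (motive := fun _ => ℕ → ℕ) (fun v => v) (fun x _ ih v => strict (vmulP x v) ih) w

theorem vwordP_eq : ∀ {w : List ℕ}, (∀ x ∈ w, x < 17) → ∀ f : Fin 248 → ZMod 3,
    vwordP w (encV f) = encV (f ᵥ* (w.map matE).prod)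
  | [], _, f => by simp only [List.map_nil, List.prod_nil, Matrix.vecMul_one]; rfl
  | x :: w, h, f => by
    show strict (vmulP x (encV f)) (vwordP w) = _
    rw [strict_eq, vmulP_eq (h x List.mem_cons_self), vwordP_eq fun y hy => h y (List.mem_cons_of_mem _ hy),
      List.map_cons, List.prod_cons, Matrix.vecMul_vecMul]

theorem comm_check : ([0, 2, 4, 6, 8, 10, 12] : List ℕ).all
    (fun k => decide (evalWord matsE [16, k] = evalWord matsE [k, 16])) = true := by decide +kernel

theorem comm_mat {k : ℕ} (hk : k ∈ ([0, 2, 4, 6, 8, 10, 12] : List ℕ)) : Commute (matE 16) (mat k) := by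
  have h := of_decide_eq_true (List.all_eq_true.1 comm_check k hk)
  have hk16 : k < 16 := by simp at hk; omega
  rw [evalWord_eq fun x hx => rowsOK_matsE (by simp at hx; omega),
    evalWord_eq fun x hx => rowsOK_matsE (by simp at hx; omega)] at h
  have e := enc_injective h
  simp only [List.map_cons, List.map_nil, List.prod_cons, List.prod_nil, mul_one] at e
  rw [← matE_eq hk16]
  exact e

theorem comm_toTh (p : P0) : Commute (matE 16) ((rho (toTh p) : GL (Fin 248) (ZMod 3)) : Mat 248) := by
  have hp : p ∈ Subgroup.closure {g | ∃ x ∈ ([0, 2, 4, 6, 8, 10, 12] : List ℕ), g = L x} :=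
    L_closure ▸ Subgroup.mem_top p
  induction hp using Subgroup.closure_induction with
  | mem g hg =>
    obtain ⟨k, hk, rfl⟩ := hg
    have hk14 : k < 14 := by simp at hk; omega
    rw [toTh_L hk14, rho_thL (by omega), unit_val (by omega)]
    exact comm_mat hk
  | one => rw [map_one, map_one, Units.val_one]; exact Commute.one_right _
  | mul g h _ _ hg hh => rw [map_mul, map_mul, Units.val_mul]; exact hg.mul_right hh
  | inv g _ hg => rw [map_inv, map_inv]; exact hg.units_inv_right

/-- the test vector -/
noncomputable def vecP : ℕ := prowsE.getD 0 0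

theorem vecP_eq : ∃ f, vecP = encV f := by
  refine ⟨matE 16 ⟨0, by norm_num⟩, ?_⟩
  rw [vecP, show prowsE = prow 16 from rfl, prow_eq (by norm_num), enc,
    List.getD_eq_getElem _ _ (by simp), List.getElem_ofFn]
  rfl

theorem vecP_fix : Nat.beq (vmulP 16 vecP) vecP = true := by decide +kernel

/-- a word of letters lies outside the subgroup on seven generators -/
noncomputable def outW (w : List ℕ) : Bool :=
  w.all (fun k => Nat.blt k 16) && !(Nat.beq (vwordP (w ++ [16]) vecP) (vwordP w vecP))

theorem outW_sound {w : List ℕ} (h : outW w = true) : (w.map thL).prod ∉ Hs := by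
  simp only [outW, Bool.and_eq_true, List.all_eq_true, Nat.blt_eq, Bool.not_eq_true'] at h
  obtain ⟨hlt, hne⟩ := h
  rintro ⟨p, hp⟩
  obtain ⟨f, hf⟩ := vecP_eq
  have hfix : f ᵥ* matE 16 = f := by
    have h := Nat.eq_of_beq_eq_true vecP_fix
    rw [hf, vmulP_eq (by norm_num)] at h
    exact encV_injective h
  have hm : w.map matE = w.map mat := List.map_congr_left fun x hx => matE_eq (hlt x hx)
  have hw : ∀ x ∈ w, x < 17 := fun x hx => (hlt x hx).trans (by norm_num)
  have hE : ∀ x ∈ w ++ [16], x < 17 := fun x hx => by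
    rcases List.mem_append.1 hx with hx | hx
    · exact hw x hx
    · simp at hx; omega
  have hc := comm_toTh p
  rw [hp, rho_prod_val hlt, ← hm] at hc
  rw [hf, vwordP_eq hE, vwordP_eq hw, List.map_append, List.prod_append, List.map_singleton, List.prod_singleton,
    ← hc.eq, ← Matrix.vecMul_vecMul, hfix, Nat.beq_refl] at hne
  exact absurd hne (by simp)

end CfsgLib.Sporadic.ThPres.Lower
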